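import Mathlib

/-!
Simply laced systems of root elements in a monoid, given by a table of sums of roots with signs.
-/

set_option autoImplicit false

namespace Cfsg.Agent.SimpleFacts.MinDegExc

/-- A table: `sm r s` is the sum of the roots `r, s`, or `n`; `sg r s` says whether the structure
constant is negative. -/
structure Sys where
  n : ℕ
  ng : ℕ → ℕ
  sm : ℕ → ℕ → ℕ
  sg : ℕ → ℕ → Bool

/-- The structure constant. -/
def Sys.sgn (S : Sys) (F : Type*) [One F] [Neg F] (r s : ℕ) : F := bif S.sg r s then -1 else 1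

variable {F : Type*} [Field F] {M : Type*} [Monoid M] {S : Sys}

theorem Sys.sgn_sq (r s : ℕ) : S.sgn F r s * S.sgn F r s = 1 := by
  unfold Sys.sgn; cases S.sg r s <;> simp

theorem Sys.sgn_ne (r s : ℕ) : S.sgn F r s ≠ 0 := by
  unfold Sys.sgn; cases S.sg r s <;> simp

/-- Root elements on the roots of `P`. -/
structure IsRG (S : Sys) (P : List ℕ) (X : ℕ → F → M) : Prop where
  zero : ∀ r ∈ P, X r 0 = 1
  add : ∀ r ∈ P, ∀ t u, X r (t + u) = X r t * X r u
  comm : ∀ r ∈ P, ∀ s ∈ P, s ≠ S.ng r → S.sm r s = S.n → ∀ t v, Commute (X r t) (X s v)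
  conj : ∀ r ∈ P, ∀ s ∈ P, S.sm r s ≠ S.n → S.sm r s ∈ P → ∀ t v,
    X r t * X s v = X (S.sm r s) (S.sgn F r s * t * v) * (X s v * X r t)

variable {P : List ℕ} {X : ℕ → F → M}

theorem IsRG.mul_neg (h : IsRG S P X) {r : ℕ} (hr : r ∈ P) (t : F) : X r t * X r (-t) = 1 := by
  rw [← h.add r hr, add_neg_cancel, h.zero r hr]

theorem IsRG.neg_mul (h : IsRG S P X) {r : ℕ} (hr : r ∈ P) (t : F) : X r (-t) * X r t = 1 := by
  rw [← h.add r hr, neg_add_cancel, h.zero r hr]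

theorem IsRG.mono (h : IsRG S P X) {P' : List ℕ} (hP : ∀ r ∈ P', r ∈ P) : IsRG S P' X :=
  ⟨fun r hr => h.zero r (hP r hr), fun r hr => h.add r (hP r hr),
    fun r hr s hs => h.comm r (hP r hr) s (hP s hs),
    fun r hr s hs hn hu => h.conj r (hP r hr) s (hP s hs) hn (hP _ hu)⟩

/-- `u - s` is a root of `P` along which `s` and `u` are conjugate. -/
def adjOK (S : Sys) (P : List ℕ) (s u : ℕ) : Bool :=
  !(S.sm u (S.ng s) == S.n) &&
    ((S.sm (S.sm u (S.ng s)) s == u) &&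
    ((S.sm (S.ng (S.sm u (S.ng s))) u == s) &&
    ((S.sm (S.ng (S.sm u (S.ng s))) s == S.n) &&
    (!(s == S.ng (S.ng (S.sm u (S.ng s)))) &&
    ((S.sm u s == S.n) &&
    (!(s == S.ng u) && (!(u == S.n) && (!(s == S.n) &&
    ((S.sg (S.sm u (S.ng s)) s == S.sg (S.ng (S.sm u (S.ng s))) u) &&
    (P.contains (S.sm u (S.ng s)) && P.contains (S.ng (S.sm u (S.ng s))))))))))))) 

/-- Each root of the list is adjacent to an earlier one. -/
def connChk (S : Sys) (P : List ℕ) : List ℕ → List ℕ → Bool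
  | _, [] => true
  | done, u :: rest => (done.any fun s => adjOK S P s u) && connChk S P (u :: done) rest

theorem conn_ind {p : ℕ → Prop} (step : ∀ s u, u ∈ P → adjOK S P s u = true → p s → p u) :
    ∀ {rest done : List ℕ}, connChk S P done rest = true → (∀ u ∈ rest, u ∈ P) →
      (∀ s ∈ done, p s) → ∀ u ∈ rest, p u
  | [], _, _, _, _ => fun u hu => absurd hu List.not_mem_nil
  | v :: rest, done, h, hP, hd => by
    simp only [connChk, Bool.and_eq_true, List.any_eq_true] at h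
    obtain ⟨⟨s, hs, hadj⟩, hrest⟩ := h
    have hv : p v := step s v (hP v List.mem_cons_self) hadj (hd s hs)
    intro u hu
    rcases List.mem_cons.1 hu with rfl | hu
    · exact hv
    · exact conn_ind step hrest (fun w hw => hP w (List.mem_cons_of_mem _ hw)) (fun w hw => by
        rcases List.mem_cons.1 hw with rfl | hw
        exacts [hv, hd w hw]) u hu

theorem IsRG.conj_adj (h : IsRG S P X) {s u : ℕ} (hs : s ∈ P) (hu : u ∈ P)
    (hadj : adjOK S P s u = true) {v w : F} (hv : v ≠ 0) (hw : w ≠ 0) :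
    ∃ g g' : M, g' * g = 1 ∧ g * g' = 1 ∧ g * X s v * g' = X u w := by
  simp only [adjOK, Bool.and_eq_true, Bool.not_eq_true', beq_iff_eq, beq_eq_false_iff_ne, ne_eq,
    List.contains_iff_mem] at hadj
  obtain ⟨h1, h2, h3, h4, h5, h6, h7, h8, h9, h10, hr, hnr⟩ := hadj
  obtain ⟨r, hrdef⟩ : ∃ r, r = S.sm u (S.ng s) := ⟨_, rfl⟩
  rw [← hrdef] at h1 h2 h3 h4 h5 h10 hr hnr
  obtain ⟨N, hN⟩ : ∃ N, N = S.sgn F r s := ⟨_, rfl⟩
  have hN' : S.sgn F (S.ng r) u = N := by rw [hN, Sys.sgn, Sys.sgn, h10]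
  have hNN : N * N = 1 := hN ▸ S.sgn_sq r s
  have hN0 : N ≠ 0 := hN ▸ S.sgn_ne r s
  obtain ⟨t, ht⟩ : ∃ t, t = w * (N * v)⁻¹ := ⟨_, rfl⟩
  have htv : N * t * v = w := by rw [ht]; field_simp
  have ht0 : t ≠ 0 := by rw [ht]; exact mul_ne_zero hw (inv_ne_zero (mul_ne_zero hN0 hv))
  have e1 : X r t * X s v * X r (-t) = X u w * X s v := by
    rw [h.conj r hr s hs (by rw [h2]; exact h8) (by rw [h2]; exact hu) t v, h2, ← hN, htv,
      mul_assoc, mul_assoc, h.mul_neg hr, mul_one]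
  have e2 : X (S.ng r) (-t⁻¹) * X u w = X s (-v) * (X u w * X (S.ng r) (-t⁻¹)) := by
    rw [h.conj _ hnr u hu (by rw [h3]; exact h9) (by rw [h3]; exact hs) (-t⁻¹) w, h3, hN']
    congr 2
    rw [← htv]; field_simp
    linear_combination (-1 : F) * hNN
  have e3 : X (S.ng r) (-t⁻¹) * X s v = X s v * X (S.ng r) (-t⁻¹) :=
    (h.comm _ hnr s hs h5 h4 _ _).eq
  refine ⟨X (S.ng r) (-t⁻¹) * X r t, X r (-t) * X (S.ng r) (- -t⁻¹), ?_, ?_, ?_⟩
  · rw [mul_assoc, ← mul_assoc (X (S.ng r) _), h.neg_mul hnr, one_mul, h.neg_mul hr]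
  · rw [mul_assoc, ← mul_assoc (X r t), h.mul_neg hr, one_mul, h.mul_neg hnr]
  · calc X (S.ng r) (-t⁻¹) * X r t * X s v * (X r (-t) * X (S.ng r) (- -t⁻¹))
        = X (S.ng r) (-t⁻¹) * (X r t * X s v * X r (-t)) * X (S.ng r) (- -t⁻¹) := by
          simp only [mul_assoc]
      _ = X s (-v) * (X u w * (X (S.ng r) (-t⁻¹) * X s v)) * X (S.ng r) (- -t⁻¹) := by
          rw [e1, ← mul_assoc (X (S.ng r) (-t⁻¹)), e2]; simp only [mul_assoc]
      _ = X s (-v) * (X u w * X s v) * (X (S.ng r) (-t⁻¹) * X (S.ng r) (- -t⁻¹)) := by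
          rw [e3]; simp only [mul_assoc]
      _ = X u w := by
          rw [h.mul_neg hnr, mul_one, (h.comm u hu s hs h7 h6 w v).eq, ← mul_assoc, h.neg_mul hs,
            one_mul]

theorem IsRG.eq_one_adj (h : IsRG S P X) {s u : ℕ} (hs : s ∈ P) (hu : u ∈ P)
    (hadj : adjOK S P s u = true) (h1 : ∀ v, X s v = 1) (w : F) : X u w = 1 := by
  rcases eq_or_ne w 0 with rfl | hw
  · exact h.zero u hu
  · obtain ⟨g, g', -, hg, e⟩ := h.conj_adj hs hu hadj one_ne_zero hw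
    rw [← e, h1, mul_one, hg]

theorem IsRG.all_trivial (h : IsRG S P X) {a : ℕ} {rest : List ℕ} (ha : a ∈ P)
    (hP : ∀ r ∈ rest, r ∈ P) (hc : connChk S P [a] rest = true) (h1 : ∀ v, X a v = 1) :
    ∀ u ∈ a :: rest, ∀ w, X u w = 1 := by
  have hp := conn_ind (p := fun u => u ∈ P ∧ ∀ w, X u w = 1)
    (fun s u hu hadj ih => ⟨hu, h.eq_one_adj ih.1 hu hadj ih.2⟩) hc hP
    (fun s hs => by rw [List.mem_singleton.1 hs]; exact ⟨ha, h1⟩)
  intro u hu
  rcases List.mem_cons.1 hu with rfl | hu'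
  exacts [h1, (hp u hu').2]

section trace

variable {V : Type*} [AddCommGroup V] [Module ℂ V] {Y : ℕ → F → Module.End ℂ V}

theorem IsRG.trace_adj (h : IsRG S P Y) {s u : ℕ} (hs : s ∈ P) (hu : u ∈ P)
    (hadj : adjOK S P s u = true) {v w : F} (hv : v ≠ 0) (hw : w ≠ 0) :
    LinearMap.trace ℂ V (Y u w) = LinearMap.trace ℂ V (Y s v) := by
  obtain ⟨g, g', hg, -, e⟩ := h.conj_adj hs hu hadj hv hw
  rw [← e, LinearMap.trace_mul_comm, ← mul_assoc, hg, one_mul]

/-- All root elements of a connected list of roots have one trace. -/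
theorem IsRG.trace_const (h : IsRG S P Y) {a b : ℕ} {rest : List ℕ} (ha : a ∈ P)
    (hP : ∀ r ∈ b :: rest, r ∈ P) (hc : connChk S P [a] (b :: rest) = true) :
    ∀ u ∈ a :: b :: rest, ∀ w : F, w ≠ 0 →
      LinearMap.trace ℂ V (Y u w) = LinearMap.trace ℂ V (Y b 1) := by
  have hb : b ∈ P := hP b List.mem_cons_self
  have hadj : adjOK S P a b = true := by
    have h' := hc
    simp only [connChk, List.any_cons, List.any_nil, Bool.or_false, Bool.and_eq_true] at h'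
    exact h'.1
  have h0 : ∀ w : F, w ≠ 0 → LinearMap.trace ℂ V (Y a w) = LinearMap.trace ℂ V (Y b 1) :=
    fun w hw => (h.trace_adj ha hb hadj hw one_ne_zero).symm
  have hp := conn_ind (p := fun u => u ∈ P ∧ ∀ w : F, w ≠ 0 →
      LinearMap.trace ℂ V (Y u w) = LinearMap.trace ℂ V (Y b 1))
    (fun s u hu hadj ih => ⟨hu, fun w hw => (h.trace_adj ih.1 hu hadj one_ne_zero hw).trans
      (ih.2 1 one_ne_zero)⟩) hc hP
    (fun s hs => by rw [List.mem_singleton.1 hs]; exact ⟨ha, h0⟩)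
  intro u hu
  rcases List.mem_cons.1 hu with rfl | hu'
  exacts [h0, (hp u hu').2]

end trace

end Cfsg.Agent.SimpleFacts.MinDegExc
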