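import Mathlib
import Cfsg.Agent.SimpleFacts.MinDegExc.Sys
import Cfsg.Agent.SimpleFacts.MinDeg.Main
import Cfsg.Agent.Lib.SteinbergSL.Outer
import Cfsg.Agent.Lib.Chevalley.Table
import Cfsg.Agent.SimpleFacts.MinDegOrth.Fourier

/-!
A subsystem of type A5 gives a representation of `SL_6`, hence a bound for a non-trivial one.
-/

set_option autoImplicit false
set_option linter.unusedSectionVars false

namespace Cfsg.Agent.SimpleFacts.MinDegExc

open Matrix Cfsg.Agent.Characters Cfsg.Agent.SimpleFacts.SLnRootLifts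
open scoped commutatorElement

variable (S : Sys) (L : List ℕ) (M : ℕ)

/-- The root of a pair of indices. -/
def root6 (i j : Fin 6) : ℕ := L.getD (6 * i.1 + j.1) S.n

/-- The sign of a pair of indices. -/
def neg6 (i j : Fin 6) : Bool := Nat.beq (Chevalley.Table.slot 1 M (6 * i.1 + j.1)) 1

/-- The check of Steinberg's relations for a subsystem of type A5 containing `a`. -/
def sl6Chk (P : List ℕ) (a : ℕ) : Bool :=
  ((List.finRange 6).all fun i => (List.finRange 6).all fun j => i == j || P.contains (root6 S L i j)) &&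
  (((List.finRange 6).any fun i => (List.finRange 6).any fun j => !(i == j) && root6 S L i j == a) &&
  (List.finRange 6).all fun i => (List.finRange 6).all fun j => i == j ||
    (List.finRange 6).all fun k => (List.finRange 6).all fun l => k == l ||
      ((i == l || (j == k || (S.sm (root6 S L i j) (root6 S L k l) == S.n &&
          !(root6 S L k l == S.ng (root6 S L i j))))) &&
       (!(j == k) || (i == l || (S.sm (root6 S L i j) (root6 S L k l) == root6 S L i l &&
          (!(root6 S L i l == S.n) &&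
           (xor (S.sg (root6 S L i j) (root6 S L k l)) (xor (neg6 M i j) (neg6 M k l)) == neg6 M i l)))))))

variable {S L M} {F : Type*} [Field F] [Fintype F]
variable {V : Type*} [AddCommGroup V] [Module ℂ V] [FiniteDimensional ℂ V]

/-- An irreducible constituent on which the group acts non-trivially. -/
theorem exists_part {G : Type*} [Group G] [Finite G] (ρ : Representation ℂ G V)
    (hne : ∃ g, ρ g ≠ 1) :
    ∃ (U : Submodule ℂ V) (hU : IsInvariantUnder ρ U),
      (subRep ρ U hU).IsIrreducible ∧ ∃ g, subRep ρ U hU g ≠ 1 := by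
  let Fix : Submodule ℂ V := ⨅ g : G, LinearMap.ker (ρ g - 1)
  have hFix : ∀ x, x ∈ Fix ↔ ∀ g, ρ g x = x := fun x => by simp [Fix, sub_eq_zero]
  have hinv : IsInvariantUnder ρ Fix := fun g x hx => by
    rw [(hFix x).1 hx g]; exact hx
  obtain ⟨D, hD, hc⟩ := exists_invariant_compl ρ hinv
  have hD0 : D ≠ ⊥ := by
    intro h0
    obtain ⟨g, hg⟩ := hne
    refine hg (LinearMap.ext fun x => ?_)
    have htop : Fix = ⊤ := by
      have := hc.sup_eq_top
      rwa [h0, sup_bot_eq] at this
    exact (hFix x).1 (htop ▸ Submodule.mem_top) g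
  obtain ⟨U, hU, hle, hU0, hirr⟩ := exists_irreducible_le ρ hD hD0
  refine ⟨U, hU, hirr, ?_⟩
  by_contra hcon
  push Not at hcon
  refine hU0 (le_bot_iff.1 fun x hx => hc.disjoint.le_bot ⟨(hFix x).2 fun g => ?_, hle hx⟩)
  exact congrArg Subtype.val (LinearMap.congr_fun (hcon g) ⟨x, hx⟩)

/-- A non-trivial representation of `SL_6` has degree at least `q + ⋯ + q^5`. -/
theorem sl6_bound (ρ : Representation ℂ (SpecialLinearGroup (Fin 6) F) V) (hne : ∃ g, ρ g ≠ 1) :
    MinDeg.T (Fintype.card F) 5 ≤ Module.finrank ℂ V := by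
  classical
  obtain ⟨U, hU, hirr, g, hg⟩ := exists_part ρ hne
  obtain ⟨σ, ⟨φ⟩⟩ := exists_equiv_fin (subRep ρ U hU)
  have hσ := (isIrreducible_congr φ).1 hirr
  refine le_trans ?_ (Submodule.finrank_le U)
  refine MinDeg.special_linear (F := F) (n := 6) (by norm_num) ⟨by simp, by simp, by simp, by simp⟩ σ hσ ?_
  have hpos : 0 < Module.finrank ℂ U := finrank_pos_of_isIrreducible (subRep ρ U hU)
  by_contra hlt
  have h1 : Module.finrank ℂ U = 1 := by omega
  -- a linear character of a perfect group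
  let χ : SpecialLinearGroup (Fin 6) F →* ℂ :=
    { toFun := fun x => LinearMap.trace ℂ U (subRep ρ U hU x)
      map_one' := by rw [map_one, LinearMap.trace_one, h1, Nat.cast_one]
      map_mul' := fun x y => by
        obtain ⟨a, ha⟩ := MinDegOrth.scalar_on_line (P := (1 : Module.End ℂ U)) (one_mul 1)
          (by rw [LinearMap.trace_one, h1, Nat.cast_one]) (Commute.one_right (subRep ρ U hU x))
        rw [mul_one] at ha
        rw [map_mul, ha, smul_mul_assoc, one_mul, map_smul, map_smul, LinearMap.trace_one, h1,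
          Nat.cast_one, smul_eq_mul, smul_eq_mul, mul_one] }
  have hχ : ∀ x, χ.toHomUnits x = 1 := by
    intro x
    have hx : x ∈ commutator (SpecialLinearGroup (Fin 6) F) := by
      rw [Classical.Linear.commutator_SL_eq_top (by simp)]; exact Subgroup.mem_top x
    exact Abelianization.commutator_subset_ker χ.toHomUnits hx
  refine hg ?_
  obtain ⟨a, ha⟩ := MinDegOrth.scalar_on_line (P := (1 : Module.End ℂ U)) (one_mul 1)
    (by rw [LinearMap.trace_one, h1, Nat.cast_one]) (Commute.one_right (subRep ρ U hU g))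
  rw [mul_one] at ha
  have e : χ g = 1 := by
    rw [← MonoidHom.coe_toHomUnits, hχ g, Units.val_one]
  change LinearMap.trace ℂ U (subRep ρ U hU g) = 1 at e
  rw [ha, map_smul, LinearMap.trace_one, h1, Nat.cast_one, smul_eq_mul, mul_one] at e
  rw [ha, e, one_smul]

/-- A non-trivial representation of the subsystem. -/
theorem sl6_system {P : List ℕ} {a : ℕ} (hchk : sl6Chk S L M P a = true)
    {Y : ℕ → F → Module.End ℂ V} (hY : IsRG S P Y) (hne : ∃ t, Y a t ≠ 1) :
    MinDeg.T (Fintype.card F) 5 ≤ Module.finrank ℂ V := by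
  classical
  simp only [sl6Chk, Bool.and_eq_true, Bool.or_eq_true, List.all_eq_true, List.any_eq_true,
    List.mem_finRange, true_implies, true_and, beq_iff_eq, Bool.not_eq_true',
    beq_eq_false_iff_ne, List.contains_iff_mem] at hchk
  obtain ⟨hmem, ⟨i₀, j₀, hij₀, ha⟩, hrel⟩ := hchk
  obtain ⟨r, hr⟩ : ∃ r, r = root6 S L := ⟨_, rfl⟩
  rw [← hr] at hmem ha hrel
  have hP : ∀ i j, i ≠ j → r i j ∈ P := fun i j h => (hmem i j).resolve_left h
  obtain ⟨s, hs⟩ : ∃ s : Fin 6 → Fin 6 → F, s = fun i j => bif neg6 M i j then -1 else 1 := ⟨_, rfl⟩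
  have hs1 : ∀ i j, s i j * s i j = 1 := fun i j => by
    rw [hs]; dsimp only; cases neg6 M i j <;> simp
  let Z : Fin 6 → Fin 6 → F → (Module.End ℂ V)ˣ := fun i j t =>
    if h : i ≠ j then ⟨Y (r i j) (s i j * t), Y (r i j) (-(s i j * t)),
      hY.mul_neg (hP i j h) _, hY.neg_mul (hP i j h) _⟩ else 1
  have hZ : ∀ {i j}, i ≠ j → ∀ t, (Z i j t : Module.End ℂ V) = Y (r i j) (s i j * t) :=
    fun {i j} h t => by simp only [Z]; rw [dif_pos h]
  have hR : Cfsg.Agent.SteinbergSL.Outer.Rels Z fun i j => i ≠ j := by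
    refine ⟨fun i j h t u => Units.ext ?_, fun i j k l hij hkl hil hjk t u => Units.ext ?_,
      fun i j k hij hjk hik t u => ?_⟩
    · rw [Units.val_mul, hZ h, hZ h, hZ h, mul_add, hY.add _ (hP i j h)]
    · rw [Units.val_mul, Units.val_mul, hZ hij, hZ hkl]
      have h' := (((hrel i j).resolve_left hij) k l).resolve_left hkl
      obtain ⟨h1, h2⟩ := (h'.1.resolve_left hil).resolve_left hjk
      exact (hY.comm _ (hP i j hij) _ (hP k l hkl) h2 h1 _ _).eq
    · have h' := (((hrel i j).resolve_left hij) j k).resolve_left hjk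
      obtain ⟨h1, h2, h3⟩ := (h'.2.resolve_left (fun h => h rfl)).resolve_left hik
      have e := hY.conj _ (hP i j hij) _ (hP j k hjk) (by rw [h1]; exact h2)
        (by rw [h1]; exact hP i k hik) (s i j * t) (s j k * u)
      rw [h1] at e
      have hsig : S.sgn F (r i j) (r j k) * (s i j * t) * (s j k * u) = s i k * (t * u) := by
        have : S.sgn F (r i j) (r j k) * s i j * s j k = s i k := by
          rw [hs]
          dsimp only
          rw [← h3, Sys.sgn]
          cases S.sg (r i j) (r j k) <;> cases neg6 M i j <;> cases neg6 M j k <;> simp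
        linear_combination (t * u) * this
      rw [hsig, ← hZ hik, ← hZ hij, ← hZ hjk] at e
      have e' : Z i j t * Z j k u = Z i k (t * u) * (Z j k u * Z i j t) :=
        Units.ext (by simpa using e)
      rw [commutatorElement_def, e']
      group
  obtain ⟨f, hf⟩ := Cfsg.Agent.SteinbergSL.Outer.exists_hom (by simp) hR
  refine sl6_bound ((Units.coeHom (Module.End ℂ V)).comp f) ?_
  obtain ⟨t, ht⟩ := hne
  refine ⟨T i₀ j₀ (s i₀ j₀ * t), ?_⟩
  show ((f (T i₀ j₀ (s i₀ j₀ * t))) : Module.End ℂ V) ≠ 1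
  rw [hf i₀ j₀ hij₀, hZ hij₀, ← mul_assoc, hs1, one_mul, ha]
  exact ht

end Cfsg.Agent.SimpleFacts.MinDegExc
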