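import Mathlib
import Cfsg.Agent.SimpleFacts.MinDegOrth.Fourier

/-!
Commuting families of additive one-parameter families of operators, decomposed by the characters of
the coordinate space.
-/

set_option autoImplicit false
set_option linter.unusedSectionVars false

namespace Cfsg.Agent.SimpleFacts.MinDegExc

open scoped BigOperators

variable {F : Type*} [Field F] [Fintype F] {V : Type*} [AddCommGroup V] [Module ℂ V]
variable [FiniteDimensional ℂ V] {ι : Type*} [Fintype ι] [DecidableEq ι]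

/-- A commuting family. -/
structure Fam (X : ι → F → Module.End ℂ V) : Prop where
  zero : ∀ b, X b 0 = 1
  add : ∀ b t u, X b (t + u) = X b t * X b u
  comm : ∀ b c t u, Commute (X b t) (X c u)

variable {X : ι → F → Module.End ℂ V}

/-- One coordinate as a homomorphism. -/
noncomputable def Fam.hom (h : Fam X) (b : ι) : Multiplicative F →* Module.End ℂ V where
  toFun t := X b t.toAdd
  map_one' := h.zero b
  map_mul' s t := h.add b s.toAdd t.toAdd

theorem Fam.hom_comm (h : Fam X) :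
    Pairwise fun b c => ∀ s t : Multiplicative F, Commute (h.hom b s) (h.hom c t) :=
  fun b c _ s t => h.comm b c s.toAdd t.toAdd

/-- The operator of a coordinate vector. -/
noncomputable def Fam.U (h : Fam X) (w : ι → F) : Module.End ℂ V :=
  MonoidHom.noncommPiCoprod h.hom h.hom_comm (fun b => Multiplicative.ofAdd (w b))

/-- The pairing of two coordinate vectors. -/
def dotp (y w : ι → F) : F := ∑ b, y b * w b

variable (ψ : AddChar F ℂ)

/-- The projection on the vectors of character `y`. -/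
noncomputable def Fam.P (h : Fam X) (y : ι → F) : Module.End ℂ V :=
  (Nat.card (ι → F) : ℂ)⁻¹ • ∑ w : ι → F, ψ (-dotp y w) • h.U w

/-- The multiplicity of the character `y`. -/
noncomputable def Fam.m (h : Fam X) (y : ι → F) : ℕ :=
  Module.finrank ℂ (LinearMap.range (h.P ψ y))

variable {ψ} (h : Fam X)

theorem Fam.U_add (w w' : ι → F) : h.U (w + w') = h.U w * h.U w' := by
  rw [Fam.U, Fam.U, Fam.U, ← map_mul]; rfl

theorem Fam.U_zero : h.U 0 = 1 := by
  rw [Fam.U]; exact map_one _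

theorem Fam.U_single (b : ι) (t : F) : h.U (Pi.single b t) = X b t := by
  have e : (fun c => Multiplicative.ofAdd ((Pi.single b t : ι → F) c)) =
      (Pi.mulSingle b (Multiplicative.ofAdd t) : ι → Multiplicative F) := by
    funext c
    rcases eq_or_ne c b with rfl | hc
    · simp
    · simp [hc]
  rw [Fam.U, e, MonoidHom.noncommPiCoprod_mulSingle]
  rfl

theorem dotp_single (y : ι → F) (b : ι) (t : F) : dotp y (Pi.single b t) = y b * t := by
  rw [dotp, Finset.sum_eq_single b]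
  · rw [Pi.single_eq_same]
  · intro c _ hc; rw [Pi.single_eq_of_ne hc, mul_zero]
  · intro hb; exact absurd (Finset.mem_univ b) hb

theorem dotp_add (y w w' : ι → F) : dotp y (w + w') = dotp y w + dotp y w' := by
  simp [dotp, mul_add, Finset.sum_add_distrib]

theorem dotp_sub (y z w : ι → F) : dotp (y - z) w = dotp y w - dotp z w := by
  simp [dotp, sub_mul, Finset.sum_sub_distrib]

theorem Fam.X_mul_P (y : ι → F) (b : ι) (t : F) : X b t * h.P ψ y = ψ (y b * t) • h.P ψ y := by
  rw [Fam.P, mul_smul_comm, Finset.mul_sum, smul_comm (ψ (y b * t))]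
  congr 1
  rw [Finset.smul_sum]
  obtain ⟨s, hs⟩ : ∃ s : ι → F, s = Pi.single b t := ⟨_, rfl⟩
  refine Fintype.sum_equiv (Equiv.addLeft s) _ _ fun w => ?_
  show _ = ψ (y b * t) • (ψ (-dotp y (s + w)) • h.U (s + w))
  subst hs
  rw [mul_smul_comm, h.U_add, h.U_single, smul_smul, ← AddChar.map_add_eq_mul, dotp_add,
    dotp_single]
  congr 2
  ring

/-- `A` lies in the space of the character `y`. -/
def Eig (X : ι → F → Module.End ℂ V) (ψ : AddChar F ℂ) (y : ι → F) (A : Module.End ℂ V) : Prop :=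
  ∀ b t, X b t * A = ψ (y b * t) • A

theorem Fam.eig_U {y : ι → F} {A : Module.End ℂ V} (hA : Eig X ψ y A) (w : ι → F) :
    h.U w * A = ψ (dotp y w) • A := by
  have key : ∀ s : Finset ι, h.U (∑ b ∈ s, Pi.single b (w b)) * A =
      ψ (dotp y (∑ b ∈ s, Pi.single b (w b))) • A := by
    intro s
    induction s using Finset.induction with
    | empty => simp [h.U_zero, dotp]
    | insert b s hb ih =>
      rw [Finset.sum_insert hb, h.U_add, mul_assoc, ih, mul_smul_comm, h.U_single, hA b, smul_smul,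
        ← AddChar.map_add_eq_mul, dotp_add, dotp_single, add_comm (dotp y _)]
  have := key Finset.univ
  rwa [Finset.univ_sum_single] at this

open _root_.Classical in
theorem orth (hψ : ψ ≠ 1) (z : ι → F) :
    ∑ w : ι → F, ψ (dotp z w) = if z = 0 then (Nat.card (ι → F) : ℂ) else 0 := by
  by_cases hz : z = 0
  · rw [if_pos hz, hz]
    simp [dotp, Nat.card_eq_fintype_card]
  · rw [if_neg hz]
    let χ : AddChar (ι → F) ℂ :=
      { toFun := fun w => ψ (dotp z w)
        map_zero_eq_one' := by simp [dotp]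
        map_add_eq_mul' := fun a b => by simp [dotp_add, AddChar.map_add_eq_mul] }
    refine AddChar.sum_eq_zero_of_ne_one (ψ := χ) fun hχ => hψ (DFunLike.ext _ _ fun t => ?_)
    obtain ⟨b, hb⟩ := Function.ne_iff.1 hz
    have e := DFunLike.congr_fun hχ (Pi.single b ((z b)⁻¹ * t))
    simpa [χ, dotp_single, ← mul_assoc, mul_inv_cancel₀ (show z b ≠ 0 from hb)] using e

theorem card_ne_zero : (Nat.card (ι → F) : ℂ) ≠ 0 := Nat.cast_ne_zero.2 Nat.card_pos.ne'

open _root_.Classical in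
theorem Fam.P_eig (hψ : ψ ≠ 1) {y : ι → F} {A : Module.End ℂ V} (hA : Eig X ψ y A) (z : ι → F) :
    h.P ψ z * A = if y = z then A else 0 := by
  have e : h.P ψ z * A = ((Nat.card (ι → F) : ℂ)⁻¹ * ∑ w : ι → F, ψ (dotp (y - z) w)) • A := by
    rw [Fam.P, smul_mul_assoc, Finset.sum_mul, ← smul_smul, Finset.sum_smul]
    congr 1
    refine Finset.sum_congr rfl fun w _ => ?_
    rw [smul_mul_assoc, h.eig_U hA, smul_smul, ← AddChar.map_add_eq_mul, dotp_sub, neg_add_eq_sub]
  rw [e, orth hψ]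
  by_cases hyz : y = z
  · rw [if_pos hyz, if_pos (sub_eq_zero.2 hyz), inv_mul_cancel₀ card_ne_zero, one_smul]
  · rw [if_neg hyz, if_neg (fun h0 => hyz (sub_eq_zero.1 h0)), mul_zero, zero_smul]

open _root_.Classical in
theorem Fam.P_mul (hψ : ψ ≠ 1) (z y : ι → F) :
    h.P ψ z * h.P ψ y = if y = z then h.P ψ y else 0 :=
  h.P_eig hψ (fun b t => h.X_mul_P y b t) z

theorem Fam.P_idem (hψ : ψ ≠ 1) (y : ι → F) : h.P ψ y * h.P ψ y = h.P ψ y := by
  classical
  rw [h.P_mul hψ, if_pos rfl]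

theorem Fam.sum_P (hψ : ψ ≠ 1) : ∑ y : ι → F, h.P ψ y = 1 := by
  classical
  simp only [Fam.P, ← Finset.smul_sum]
  rw [Finset.sum_comm]
  simp only [← Finset.sum_smul]
  have e : ∀ w : ι → F, ∑ y : ι → F, ψ (-dotp y w) =
      if w = 0 then (Nat.card (ι → F) : ℂ) else 0 := fun w => by
    rw [Finset.sum_congr rfl (g := fun y => ψ (dotp (-w) y)) fun y _ => by
      simp [dotp, mul_comm, Finset.sum_neg_distrib]]
    rw [orth hψ]
    simp
  simp only [e, ite_smul, zero_smul, Finset.sum_ite_eq', Finset.mem_univ, if_true, h.U_zero,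
    smul_smul, inv_mul_cancel₀ card_ne_zero, one_smul]

theorem Fam.trace_P (hψ : ψ ≠ 1) (y : ι → F) :
    LinearMap.trace ℂ V (h.P ψ y) = (h.m ψ y : ℂ) :=
  MinDegOrth.trace_proj (h.P_idem hψ y)

theorem Fam.trace_eq (hψ : ψ ≠ 1) (A : Module.End ℂ V) :
    LinearMap.trace ℂ V A = ∑ y : ι → F, LinearMap.trace ℂ V (A * h.P ψ y) := by
  rw [← map_sum, ← Finset.mul_sum, h.sum_P hψ, mul_one]

theorem Fam.sum_m (hψ : ψ ≠ 1) : ∑ y : ι → F, h.m ψ y = Module.finrank ℂ V := by
  have e := h.trace_eq hψ 1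
  rw [LinearMap.trace_one] at e
  simp only [one_mul, h.trace_P hψ] at e
  exact_mod_cast e.symm

theorem Fam.trace_X (hψ : ψ ≠ 1) (b : ι) (t : F) :
    LinearMap.trace ℂ V (X b t) = ∑ y : ι → F, (h.m ψ y : ℂ) * ψ (y b * t) := by
  rw [h.trace_eq hψ]
  refine Finset.sum_congr rfl fun y _ => ?_
  rw [h.X_mul_P, map_smul, h.trace_P hψ, smul_eq_mul, mul_comm]

/-- An operator sending the character `z` to `f z`. -/
def Moves (h : Fam X) (ψ : AddChar F ℂ) (g : Module.End ℂ V) (f : (ι → F) → (ι → F)) : Prop :=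
  Function.Injective f ∧ ∀ z, Eig X ψ (f z) (g * h.P ψ z)

variable {h}

theorem Moves.mul_P (hψ : ψ ≠ 1) {g : Module.End ℂ V} {f : (ι → F) → (ι → F)}
    (hg : Moves h ψ g f) (y : ι → F) : g * h.P ψ y = h.P ψ (f y) * g := by
  classical
  conv_rhs => rw [← mul_one g, ← h.sum_P hψ, Finset.mul_sum, Finset.mul_sum]
  simp only [h.P_eig hψ (hg.2 _)]
  rw [Finset.sum_congr rfl (g := fun z => if z = y then g * h.P ψ z else 0) fun z _ => by
    simp only [hg.1.eq_iff]]
  simp

theorem Moves.trace_moved (hψ : ψ ≠ 1) {g : Module.End ℂ V} {f : (ι → F) → (ι → F)}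
    (hg : Moves h ψ g f) {y : ι → F} (hy : f y ≠ y) :
    LinearMap.trace ℂ V (g * h.P ψ y) = 0 := by
  classical
  rw [← h.P_idem hψ y, ← mul_assoc, LinearMap.trace_mul_comm, hg.mul_P hψ y, ← mul_assoc,
    h.P_mul hψ, if_neg hy, zero_mul, map_zero]

theorem Moves.commute (hψ : ψ ≠ 1) {g : Module.End ℂ V} {f : (ι → F) → (ι → F)}
    (hg : Moves h ψ g f) {y : ι → F} (hy : f y = y) : Commute g (h.P ψ y) := by
  have := hg.mul_P hψ y
  rwa [hy] at this

theorem Moves.m_eq (hψ : ψ ≠ 1) {g g' : Module.End ℂ V} {f : (ι → F) → (ι → F)}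
    (hg : Moves h ψ g f) (hgg : g * g' = 1) (y : ι → F) : h.m ψ (f y) = h.m ψ y := by
  have hg' : g' * g = 1 := mul_eq_one_comm.1 hgg
  have e : LinearMap.trace ℂ V (h.P ψ (f y)) = LinearMap.trace ℂ V (h.P ψ y) := by
    rw [← mul_one (h.P ψ (f y)), ← hgg, ← mul_assoc, ← hg.mul_P hψ, LinearMap.trace_mul_comm,
      ← mul_assoc, hg', one_mul]
  rw [h.trace_P hψ, h.trace_P hψ] at e
  exact_mod_cast e

theorem Moves.trace_shift (hψ : ψ ≠ 1) {g g' : Module.End ℂ V} {f : (ι → F) → (ι → F)}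
    (hg : Moves h ψ g f) (hgg : g * g' = 1) {A : Module.End ℂ V} (hA : Commute A g) (y : ι → F) :
    LinearMap.trace ℂ V (A * h.P ψ (f y)) = LinearMap.trace ℂ V (A * h.P ψ y) := by
  have hg' : g' * g = 1 := mul_eq_one_comm.1 hgg
  have e : A * h.P ψ (f y) = g * (A * h.P ψ y * g') := by
    rw [← mul_assoc, ← mul_assoc, ← hA.eq, mul_assoc A g, hg.mul_P hψ, ← mul_assoc, mul_assoc,
      hgg, mul_one]
  rw [e, LinearMap.trace_mul_comm, mul_assoc, hg', mul_one]

/-- A commutator fixing a line acts trivially on it. -/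
theorem phase {P A B C A' B' : Module.End ℂ V} (hP : P * P = P)
    (h1 : LinearMap.trace ℂ V P = 1) (hA : Commute A P) (hB : Commute B P) (hC : Commute C P)
    (hA' : A' * A = 1) (hB' : B' * B = 1) (e : A * B = C * (B * A)) : C * P = P := by
  obtain ⟨α, hα⟩ := MinDegOrth.scalar_on_line hP h1 hA
  obtain ⟨β, hβ⟩ := MinDegOrth.scalar_on_line hP h1 hB
  obtain ⟨γ, hγ⟩ := MinDegOrth.scalar_on_line hP h1 hC
  have hne : P ≠ 0 := fun h0 => by rw [h0, map_zero] at h1; exact zero_ne_one h1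
  have e1 : A * B * P = (β * α) • P := by rw [mul_assoc, hβ, mul_smul_comm, hα, smul_smul]
  have e2 : C * (B * A) * P = (α * β * γ) • P := by
    rw [mul_assoc, mul_assoc, hα, mul_smul_comm, hβ, smul_smul, mul_smul_comm, hγ, smul_smul]
  rw [e, e2] at e1
  have hnz : ∀ {G G' : Module.End ℂ V} {c : ℂ}, G' * G = 1 → G * P = c • P → c ≠ 0 := by
    intro G G' c hG hc h0
    rw [h0, zero_smul] at hc
    exact hne (by rw [← one_mul P, ← hG, mul_assoc, hc, mul_zero])
  have h2 := smul_left_injective ℂ hne e1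
  have h3 : γ = 1 := by
    have := mul_ne_zero (hnz hA' hα) (hnz hB' hβ)
    refine mul_left_cancel₀ this ?_
    rw [mul_one]; exact h2.trans (mul_comm _ _)
  rw [hγ, h3, one_smul]

/-- The slice sums of a family with a trace deficit. -/
theorem Fam.slice (hψ : ψ ≠ 1) [DecidableEq F] (h : Fam X) (e : ι) {D : ℂ}
    (hD : ∀ t : F, t ≠ 0 → LinearMap.trace ℂ V (X e t) = (Module.finrank ℂ V : ℂ) - D) {c : F}
    (hc : c ≠ 0) :
    (Fintype.card F : ℂ) * ((∑ y ∈ Finset.univ.filter (fun y : ι → F => y e = c), h.m ψ y : ℕ) : ℂ) =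
      D := by
  have hp := AddChar.IsPrimitive.of_ne_one hψ
  have lhs : ∑ t : F, ψ (-(c * t)) * LinearMap.trace ℂ V (X e t) = D := by
    rw [← Finset.add_sum_erase _ _ (Finset.mem_univ (0 : F)),
      Finset.sum_congr rfl fun t ht => by rw [hD t (Finset.ne_of_mem_erase ht)],
      ← Finset.sum_mul, Finset.sum_erase_eq_sub (Finset.mem_univ _), h.zero, LinearMap.trace_one]
    have : ∑ t : F, ψ (-(c * t)) = 0 := by
      rw [Finset.sum_congr rfl (g := fun t => ψ (t * -c)) fun t _ => by ring_nf,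
        AddChar.sum_mulShift _ hp, if_neg (neg_ne_zero.2 hc), Nat.cast_zero]
    rw [this, mul_zero, neg_zero, AddChar.map_zero_eq_one, one_mul]
    ring
  rw [Finset.sum_congr rfl fun t _ => by rw [h.trace_X hψ, Finset.mul_sum], Finset.sum_comm] at lhs
  rw [← lhs, Nat.cast_sum, Finset.mul_sum, Finset.sum_filter]
  refine Finset.sum_congr rfl fun y _ => ?_
  rw [Finset.sum_congr rfl (g := fun t => (h.m ψ y : ℂ) * ψ (t * (y e - c))) fun t _ => by
    rw [mul_left_comm, ← AddChar.map_add_eq_mul]; congr 2; ring,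
    ← Finset.mul_sum, AddChar.sum_mulShift _ hp]
  by_cases hy : y e = c
  · rw [if_pos hy, if_pos (sub_eq_zero.2 hy), mul_comm]
  · rw [if_neg hy, if_neg (fun e' => hy (sub_eq_zero.1 e')), Nat.cast_zero, mul_zero]

end Cfsg.Agent.SimpleFacts.MinDegExc
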