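import Mathlib
import Cfsg.Agent.SimpleFacts.MinDegExc.Sys
import Cfsg.Agent.SimpleFacts.MinDegExc.Coord

/-!
Operators restricted to the range of an idempotent commuting with them.
-/

set_option autoImplicit false
set_option linter.unusedSectionVars false

namespace Cfsg.Agent.SimpleFacts.MinDegExc

variable {V : Type*} [AddCommGroup V] [Module ℂ V] [FiniteDimensional ℂ V]

open _root_.Classical in
/-- The restriction of an operator commuting with `E` to the range of `E`, or `1`. -/
noncomputable def res (E A : Module.End ℂ V) : Module.End ℂ (LinearMap.range E) :=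
  if h : Commute A E then
    A.restrict (p := LinearMap.range E) (q := LinearMap.range E) fun x hx => by
      obtain ⟨z, rfl⟩ := hx
      exact ⟨A z, (LinearMap.congr_fun h.eq z).symm⟩
  else 1

theorem res_val {E A : Module.End ℂ V} (h : Commute A E) (x : LinearMap.range E) :
    (res E A x : V) = A x.1 := by
  rw [res, dif_pos h]; rfl

theorem res_one (E : Module.End ℂ V) : res E 1 = 1 := by
  refine LinearMap.ext fun x => Subtype.ext ?_
  rw [res_val (Commute.one_left E)]
  rfl

theorem res_mul {E A B : Module.End ℂ V} (hA : Commute A E) (hB : Commute B E) :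
    res E (A * B) = res E A * res E B := by
  refine LinearMap.ext fun x => Subtype.ext ?_
  rw [Module.End.mul_apply, res_val (hA.mul_left hB), res_val hA, res_val hB]
  rfl

theorem res_eq_of_mul_eq {E A B : Module.End ℂ V} (hA : Commute A E) (hB : Commute B E)
    (h : A * E = B * E) : res E A = res E B := by
  refine LinearMap.ext fun x => Subtype.ext ?_
  obtain ⟨z, hz⟩ := x.2
  rw [res_val hA, res_val hB, ← hz]
  exact LinearMap.congr_fun h z

theorem res_apply_val {E A : Module.End ℂ V} (hA : Commute A E) (z : V) :
    (res E A ⟨E z, LinearMap.mem_range_self E z⟩ : V) = A (E z) := res_val hA _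

theorem trace_res {E A : Module.End ℂ V} (hE : E * E = E) (hA : Commute A E) :
    LinearMap.trace ℂ (LinearMap.range E) (res E A) = LinearMap.trace ℂ V (A * E) := by
  have hfix : ∀ x : LinearMap.range E, E x.1 = x.1 := fun x => by
    obtain ⟨z, hz⟩ := x.2
    rw [← hz, ← Module.End.mul_apply, hE]
  have e1 : A * E = (LinearMap.range E).subtype ∘ₗ (res E A ∘ₗ LinearMap.rangeRestrict E) := by
    refine LinearMap.ext fun z => ?_
    show A (E z) = (res E A (LinearMap.rangeRestrict E z) : V)
    rw [res_val hA]
    rfl
  have e2 : (res E A ∘ₗ LinearMap.rangeRestrict E) ∘ₗ (LinearMap.range E).subtype = res E A := by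
    refine LinearMap.ext fun x => ?_
    show res E A (LinearMap.rangeRestrict E x.1) = res E A x
    congr 1
    exact Subtype.ext (hfix x)
  rw [e1, LinearMap.trace_comp_comm', e2]

theorem finrank_range {E : Module.End ℂ V} (hE : E * E = E) :
    (Module.finrank ℂ (LinearMap.range E) : ℂ) = LinearMap.trace ℂ V E :=
  (MinDegOrth.trace_proj hE).symm

variable {F : Type*} [Field F]

theorem isRG_res {S : Sys} {P : List ℕ} {X : ℕ → F → Module.End ℂ V} (h : IsRG S P X)
    {E : Module.End ℂ V} (hE : ∀ r ∈ P, ∀ t, Commute (X r t) E) :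
    IsRG S P fun r t => res E (X r t) where
  zero r hr := by rw [h.zero r hr, res_one]
  add r hr t u := by rw [h.add r hr, res_mul (hE r hr t) (hE r hr u)]
  comm r hr s hs hsn hn t v := by
    show res E (X r t) * res E (X s v) = res E (X s v) * res E (X r t)
    rw [← res_mul (hE r hr t) (hE s hs v), ← res_mul (hE s hs v) (hE r hr t),
      (h.comm r hr s hs hsn hn t v).eq]
  conj r hr s hs hn hu t v := by
    rw [← res_mul (hE r hr t) (hE s hs v), ← res_mul (hE s hs v) (hE r hr t),
      ← res_mul (hE _ hu _) ((hE s hs v).mul_left (hE r hr t)), h.conj r hr s hs hn hu t v]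

end Cfsg.Agent.SimpleFacts.MinDegExc
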