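import Mathlib
import Cfsg.Agent.SimpleFacts.MinDegExc.Sys

/-!
The combinatorial conditions on a radical `R` normalised by a root subsystem `L`, as a Boolean check.
-/

set_option autoImplicit false

namespace Cfsg.Agent.SimpleFacts.MinDegExc

/-- A radical with its complement; `st e` is the partner of `e` if there is one, else `e`. -/
structure Lvl where
  R : List ℕ
  a : ℕ
  L : List ℕ
  mR : ℕ
  mL : ℕ
  k : ℕ
  st : ℕ → ℕ

/-- Membership by a mask. -/
def inM (n M i : ℕ) : Bool := Nat.blt i n && Nat.testBit M i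

/-- The mask and the list agree. -/
def maskChk (n M : ℕ) (R : List ℕ) : Bool :=
  (R.all fun i => inM n M i) &&
    ((List.range n).all fun i => !inM n M i || R.contains i)

theorem inM_iff {n M : ℕ} {R : List ℕ} (h : maskChk n M R = true) (i : ℕ) :
    inM n M i = true ↔ i ∈ R := by
  simp only [maskChk, Bool.and_eq_true, List.all_eq_true, Bool.or_eq_true, Bool.not_eq_true',
    List.contains_iff_mem, List.mem_range] at h
  refine ⟨fun hi => ?_, fun hi => h.1 i hi⟩
  have hlt : i < n := by
    simp only [inM, Bool.and_eq_true, Nat.blt_eq] at hi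
    exact hi.1
  rcases h.2 i hlt with h' | h'
  · rw [h'] at hi; exact Bool.noConfusion hi
  · exact h'

variable (S : Sys) (lv : Lvl)

/-- In the radical. -/
def Lvl.inR (i : ℕ) : Bool := inM S.n lv.mR i

/-- In the complement. -/
def Lvl.inL (i : ℕ) : Bool := inM S.n lv.mL i

/-- The root moving `b` to `e`. -/
def Lvl.rb (e b : ℕ) : ℕ := S.sm e (S.ng b)

/-- `b` is cleared by a move at `e`. -/
def Lvl.isV1 (e b : ℕ) : Bool := !(b == e) && lv.inL S (Lvl.rb S e b)

/-- The coordinates cleared at `e`. -/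
def Lvl.v1 (e : ℕ) : List ℕ := lv.R.filter (lv.isV1 S e)

/-- The coordinates below `e` among them. -/
def Lvl.v1b (e : ℕ) : List ℕ := (lv.v1 S e).filter fun b => Nat.blt b e

/-- The move of `r` carries some coordinate to `e`. -/
def Lvl.moved (r e : ℕ) : Bool := lv.R.any fun b => S.sm r b == e

/-- The exponent attached to `e`. -/
def Lvl.aExp (e : ℕ) : ℕ := (lv.v1b S e).length

/-- Strictly increasing. -/
def incr : List ℕ → Bool
  | [] => true
  | [_] => true
  | a :: b :: l => Nat.blt a b && incr (b :: l)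

theorem nodup_of_incr : ∀ {l : List ℕ}, incr l = true → l.Nodup ∧ ∀ a t, l = a :: t → ∀ x ∈ t, a < x
  | [], _ => ⟨List.nodup_nil, fun a t h => by simp at h⟩
  | [a], _ => ⟨List.nodup_singleton a, fun a t h => by simp at h; simp [h.2]⟩
  | a :: b :: l, h => by
    simp only [incr, Bool.and_eq_true, Nat.blt_eq] at h
    obtain ⟨h1, h2⟩ := h
    obtain ⟨hn, hlt⟩ := nodup_of_incr h2
    have key : ∀ x ∈ b :: l, a < x := fun x hx => by
      rcases List.mem_cons.1 hx with rfl | hx
      exacts [h1, h1.trans (hlt b l rfl x hx)]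
    refine ⟨List.nodup_cons.2 ⟨fun hm => lt_irrefl _ (key a hm), hn⟩, fun a' t e x hx => ?_⟩
    simp only [List.cons.injEq] at e
    obtain ⟨rfl, rfl⟩ := e
    exact key x hx

/-- The action of the complement on the radical. -/
def Lvl.stableChk : Bool :=
  (lv.a :: lv.L).all fun r => lv.R.all fun b =>
    !(b == S.ng r) && ((S.sm r b == S.n) || (lv.inR S (S.sm r b) && !lv.inR S (S.sm r (S.sm r b))))

/-- The moves used at `e`. -/
def Lvl.isoChk (e : ℕ) : Bool :=
  ((lv.v1 S e).length == lv.k) &&
  (lv.v1 S e).all fun b => (S.sm (Lvl.rb S e b) b == e) &&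
    (!lv.inR S (S.sm (Lvl.rb S e b) e) &&
    ((lv.v1 S e).all fun b' => b' == b || !lv.inR S (S.sm (Lvl.rb S e b) b')))

/-- Below `e` the moves raise and commute with `a`. -/
def Lvl.raiseChk (e : ℕ) : Bool :=
  (lv.v1b S e).all fun b =>
    (lv.R.all fun x => !lv.inR S (S.sm (Lvl.rb S e b) x) || Nat.blt x (S.sm (Lvl.rb S e b) x)) &&
      ((S.sm lv.a (Lvl.rb S e b) == S.n) && !(Lvl.rb S e b == S.ng lv.a))

/-- The coordinate `g` is killed by an invariance, given that the support lies in `supp`. -/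
def Lvl.killed (supp : ℕ → Bool) (e g : ℕ) : Bool :=
  lv.R.any fun β => lv.inL S (S.sm g (S.ng β)) && ((S.sm (S.sm g (S.ng β)) β == g) &&
    ((e :: lv.v1 S e).all fun b => !supp (S.sm (S.sm g (S.ng β)) b)))

/-- All coordinates are killed in two rounds. -/
def Lvl.killChk (e : ℕ) : Bool :=
  lv.R.all fun g => g == e || (lv.isV1 S e g ||
    (bif g == lv.st e then lv.killed S (fun u => lv.inR S u && (u == e || u == g)) e g
     else lv.killed S (fun u => lv.inR S u && !lv.isV1 S e u) e g))

/-- The phase of `a` at `e`. -/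
def Lvl.phaseChk (e : ℕ) : Bool :=
  lv.moved S lv.a e || lv.L.any fun r =>
    lv.inL S (S.sm lv.a (S.ng r)) && ((S.sm r (S.sm lv.a (S.ng r)) == lv.a) &&
      (!lv.moved S r e && !lv.moved S (S.sm lv.a (S.ng r)) e))

/-- The whole check. -/
def Lvl.chk : Bool :=
  incr lv.R && (maskChk S.n lv.mR lv.R && (maskChk S.n lv.mL (lv.a :: lv.L) && (lv.stableChk S &&
    lv.R.all fun e => lv.isoChk S e && (lv.raiseChk S e && (lv.killChk S e && lv.phaseChk S e)))))

/-- The roots of a level. -/
def Lvl.roots : List ℕ := lv.R ++ (lv.a :: lv.L)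

end Cfsg.Agent.SimpleFacts.MinDegExc
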