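import Mathlib
import Cfsg.Agent.SimpleFacts.MinDegExc.Coord
import Cfsg.Agent.SimpleFacts.MinDegExc.Level

/-!
The characters of a radical in a representation: moves, normal forms, and the orbit of multiplicity
one.
-/

set_option autoImplicit false
set_option linter.unusedSectionVars false

namespace Cfsg.Agent.SimpleFacts.MinDegExc

variable {F : Type*} [Field F] [Fintype F] {V : Type*} [AddCommGroup V] [Module ℂ V]
variable [FiniteDimensional ℂ V] {S : Sys} {lv : Lvl} {X : ℕ → F → Module.End ℂ V}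

/-- The standing hypotheses. -/
structure Ctx (S : Sys) (lv : Lvl) (X : ℕ → F → Module.End ℂ V) : Prop where
  chk : lv.chk S = true
  rg : IsRG S lv.roots X
  ab : ∀ b ∈ lv.R, ∀ c ∈ lv.R, ∀ t u, Commute (X b t) (X c u)

/-- The coordinates of the radical. -/
abbrev Co (lv : Lvl) := {b : ℕ // b ∈ lv.R}

/-- A coordinate, or `0` outside the radical. -/
def gv (lv : Lvl) (y : Co lv → F) (u : ℕ) : F := if h : u ∈ lv.R then y ⟨u, h⟩ else 0

theorem gv_mem (y : Co lv → F) {u : ℕ} (h : u ∈ lv.R) : gv lv y u = y ⟨u, h⟩ := dif_pos h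

theorem gv_not (y : Co lv → F) {u : ℕ} (h : u ∉ lv.R) : gv lv y u = 0 := dif_neg h

theorem gv_zero (u : ℕ) : gv lv (0 : Co lv → F) u = 0 := by
  unfold gv; split <;> rfl

/-- The move of characters by `x_r(s)`. -/
def mv (S : Sys) (lv : Lvl) (r : ℕ) (s : F) (y : Co lv → F) : Co lv → F :=
  fun b => y b - S.sgn F r b.1 * s * gv lv y (S.sm r b.1)

theorem gv_mv (r : ℕ) (s : F) (y : Co lv → F) {u : ℕ} (hu : u ∈ lv.R) :
    gv lv (mv S lv r s y) u = gv lv y u - S.sgn F r u * s * gv lv y (S.sm r u) := by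
  rw [gv_mem _ hu, gv_mem _ hu]; rfl

theorem mv_zero (r : ℕ) (y : Co lv → F) : mv S lv r (0 : F) y = y := by
  funext b; simp [mv]

namespace Ctx

theorem incr_R (C : Ctx S lv X) : incr lv.R = true := by
  have h := C.chk
  simp only [Lvl.chk, Bool.and_eq_true] at h
  exact h.1

theorem inR_iff (C : Ctx S lv X) (i : ℕ) : lv.inR S i = true ↔ i ∈ lv.R := by
  have h := C.chk
  simp only [Lvl.chk, Bool.and_eq_true] at h
  exact inM_iff h.2.1 i

theorem inR_false (C : Ctx S lv X) (i : ℕ) : lv.inR S i = false ↔ i ∉ lv.R := by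
  rw [← C.inR_iff i, Bool.eq_false_iff]

theorem inL_iff (C : Ctx S lv X) (i : ℕ) : lv.inL S i = true ↔ i ∈ lv.a :: lv.L := by
  have h := C.chk
  simp only [Lvl.chk, Bool.and_eq_true] at h
  exact inM_iff h.2.2.1 i

theorem ne_n (C : Ctx S lv X) {i : ℕ} (hi : i ∈ lv.R) : i ≠ S.n := by
  have h := (C.inR_iff i).2 hi
  simp only [Lvl.inR, inM, Bool.and_eq_true, Nat.blt_eq] at h
  exact h.1.ne

theorem memR (_C : Ctx S lv X) {b : ℕ} (hb : b ∈ lv.R) : b ∈ lv.roots :=
  List.mem_append_left _ hb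

theorem memL (_C : Ctx S lv X) {r : ℕ} (hr : r ∈ lv.a :: lv.L) : r ∈ lv.roots :=
  List.mem_append_right _ hr

theorem stable (C : Ctx S lv X) {r b : ℕ} (hr : r ∈ lv.a :: lv.L) (hb : b ∈ lv.R) :
    b ≠ S.ng r ∧ (S.sm r b = S.n ∨ (S.sm r b ∈ lv.R ∧ S.sm r (S.sm r b) ∉ lv.R)) := by
  have h := C.chk
  simp only [Lvl.chk, Bool.and_eq_true] at h
  have h' := List.all_eq_true.1 (List.all_eq_true.1 h.2.2.2.1 r hr) b hb
  simp only [Bool.and_eq_true, Bool.or_eq_true, Bool.not_eq_true', beq_iff_eq, beq_eq_false_iff_ne,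
    C.inR_iff, C.inR_false] at h'
  exact h'

theorem at_e (C : Ctx S lv X) {e : ℕ} (he : e ∈ lv.R) :
    lv.isoChk S e = true ∧ lv.raiseChk S e = true ∧ lv.killChk S e = true ∧
      lv.phaseChk S e = true := by
  have h := C.chk
  simp only [Lvl.chk, Bool.and_eq_true] at h
  have h' := List.all_eq_true.1 h.2.2.2.2 e he
  simp only [Bool.and_eq_true] at h'
  exact h'

theorem mem_v1 (C : Ctx S lv X) {e b : ℕ} :
    b ∈ lv.v1 S e ↔ b ∈ lv.R ∧ b ≠ e ∧ Lvl.rb S e b ∈ lv.a :: lv.L := by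
  simp only [Lvl.v1, List.mem_filter, Lvl.isV1, Bool.and_eq_true, Bool.not_eq_true',
    beq_eq_false_iff_ne, C.inL_iff]

theorem iso (C : Ctx S lv X) {e b : ℕ} (he : e ∈ lv.R) (hb : b ∈ lv.v1 S e) :
    S.sm (Lvl.rb S e b) b = e ∧ S.sm (Lvl.rb S e b) e ∉ lv.R ∧
      ∀ b' ∈ lv.v1 S e, b' ≠ b → S.sm (Lvl.rb S e b) b' ∉ lv.R := by
  have h := (C.at_e he).1
  simp only [Lvl.isoChk, Bool.and_eq_true, List.all_eq_true] at h
  have h' := h.2 b hb
  simp only [Bool.or_eq_true, Bool.not_eq_true', beq_iff_eq, C.inR_false] at h'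
  exact ⟨h'.1, h'.2.1, fun b' hb' hne => (h'.2.2 b' hb').resolve_left hne⟩

theorem v1_length (C : Ctx S lv X) {e : ℕ} (he : e ∈ lv.R) : (lv.v1 S e).length = lv.k := by
  have h := (C.at_e he).1
  simp only [Lvl.isoChk, Bool.and_eq_true, beq_iff_eq] at h
  exact h.1

/-- The radical as a commuting family. -/
theorem fam (C : Ctx S lv X) : Fam (ι := Co lv) fun b t => X b.1 t where
  zero b := C.rg.zero _ (C.memR b.2)
  add b := C.rg.add _ (C.memR b.2)
  comm b c := C.ab _ b.2 _ c.2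

variable {ψ : AddChar F ℂ}

theorem mv_inv (C : Ctx S lv X) {r : ℕ} (hr : r ∈ lv.a :: lv.L) (s : F) (y : Co lv → F) :
    mv S lv r (-s) (mv S lv r s y) = y := by
  funext b
  simp only [mv]
  rcases (C.stable hr b.2).2 with hn | ⟨hu, hu'⟩
  · rw [hn, gv_not _ (fun hm => C.ne_n hm rfl), gv_not _ (fun hm => C.ne_n hm rfl)]
    ring
  · rw [gv_mv _ _ _ hu, gv_not _ hu']
    ring

theorem mv_inj (C : Ctx S lv X) {r : ℕ} (hr : r ∈ lv.a :: lv.L) (s : F) :
    Function.Injective (mv (F := F) S lv r s) :=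
  Function.LeftInverse.injective (g := mv S lv r (-s)) (C.mv_inv hr s)

theorem moves (C : Ctx S lv X) {r : ℕ} (hr : r ∈ lv.a :: lv.L) (s : F) :
    Moves C.fam ψ (X r s) (mv S lv r s) := by
  refine ⟨C.mv_inj hr s, fun z b t => ?_⟩
  obtain ⟨hbr, hcase⟩ := C.stable hr b.2
  have hrP := C.memL hr
  have hbP := C.memR b.2
  show X b.1 t * (X r s * C.fam.P ψ z) = _
  by_cases hn : S.sm r b.1 = S.n
  · rw [← mul_assoc, ← (C.rg.comm r hrP b.1 hbP hbr hn s t).eq, mul_assoc, C.fam.X_mul_P z b t,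
      mul_smul_comm]
    congr 2
    simp [mv, hn, gv_not _ (fun hm => C.ne_n hm rfl)]
  · obtain ⟨hu, -⟩ := hcase.resolve_left hn
    have e := C.rg.conj r hrP b.1 hbP hn (C.memR hu) (-s) t
    calc X b.1 t * (X r s * C.fam.P ψ z)
        = (X r s * (X r (-s) * X b.1 t)) * (X r s * C.fam.P ψ z) := by
          rw [← mul_assoc (X r s) (X r (-s)), C.rg.mul_neg hrP, one_mul]
      _ = X r s * (X (S.sm r b.1) (S.sgn F r b.1 * -s * t) * (X b.1 t *
            ((X r (-s) * X r s) * C.fam.P ψ z))) := by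
          rw [e]; simp only [mul_assoc]
      _ = ψ (z b * t) • ψ (z ⟨_, hu⟩ * (S.sgn F r b.1 * -s * t)) • (X r s * C.fam.P ψ z) := by
          rw [C.rg.neg_mul hrP, one_mul, C.fam.X_mul_P z b t, mul_smul_comm,
            C.fam.X_mul_P z ⟨_, hu⟩ _, mul_smul_comm, mul_smul_comm]
      _ = ψ (mv S lv r s z b * t) • (X r s * C.fam.P ψ z) := by
          rw [smul_smul, ← AddChar.map_add_eq_mul]
          congr 2
          simp only [mv, gv_mem _ hu]
          ring

theorem m_mv (C : Ctx S lv X) (hψ : ψ ≠ 1) {r : ℕ} (hr : r ∈ lv.a :: lv.L) (s : F)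
    (y : Co lv → F) : C.fam.m ψ (mv S lv r s y) = C.fam.m ψ y :=
  (C.moves hr s).m_eq hψ (C.rg.mul_neg (C.memL hr) s) y

open _root_.Classical in
/-- Clearing coordinates at `e` from an invariant sum. -/
theorem peel (C : Ctx S lv X) {M : Type*} [AddCommMonoid M] (f : (Co lv → F) → M) {e : ℕ}
    (he : e ∈ lv.R) {c : F} (hc : c ≠ 0) (Q : (Co lv → F) → Prop) :
    ∀ l : List ℕ, l.Nodup → (∀ b ∈ l, b ∈ lv.v1 S e) →
      (∀ b ∈ l, ∀ t y, Q y → Q (mv S lv (Lvl.rb S e b) t y)) →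
      (∀ b ∈ l, ∀ t y, Q y → f (mv S lv (Lvl.rb S e b) t y) = f y) →
      ∑ y ∈ Finset.univ.filter (fun y => Q y ∧ gv lv y e = c), f y =
        (Fintype.card F ^ l.length) • ∑ y ∈ Finset.univ.filter
          (fun y => Q y ∧ gv lv y e = c ∧ ∀ b ∈ l, gv lv y b = 0), f y := by
  intro l
  induction l with
  | nil => intros; simp
  | cons b l ih =>
    intro hnd hl hQ hf
    rw [ih (List.nodup_cons.1 hnd).2 (fun b' hb' => hl b' (List.mem_cons_of_mem _ hb'))
      (fun b' hb' => hQ b' (List.mem_cons_of_mem _ hb'))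
      (fun b' hb' => hf b' (List.mem_cons_of_mem _ hb')), List.length_cons, pow_succ, mul_smul]
    congr 1
    obtain ⟨hbR, hbe, hrL⟩ := C.mem_v1.1 (hl b List.mem_cons_self)
    obtain ⟨h1, h2, h3⟩ := C.iso he (hl b List.mem_cons_self)
    obtain ⟨r, hr⟩ : ∃ r, r = Lvl.rb S e b := ⟨_, rfl⟩
    rw [← hr] at h1 h2 h3 hrL
    obtain ⟨N, hN⟩ : ∃ N, N = S.sgn F r b := ⟨_, rfl⟩
    have hNN : N * N = 1 := hN ▸ S.sgn_sq r b
    have key : ∀ (t : F) (y : Co lv → F), gv lv (mv S lv r t y) e = gv lv y e ∧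
        gv lv (mv S lv r t y) b = gv lv y b - N * t * gv lv y e ∧
        ∀ b' ∈ l, gv lv (mv S lv r t y) b' = gv lv y b' := by
      intro t y
      refine ⟨?_, ?_, fun b' hb' => ?_⟩
      · rw [gv_mv _ _ _ he, gv_not _ h2, mul_zero, sub_zero]
      · rw [gv_mv _ _ _ hbR, h1, hN]
      · have hb1 := hl b' (List.mem_cons_of_mem _ hb')
        rw [gv_mv _ _ _ (C.mem_v1.1 hb1).1, gv_not _ (h3 b' hb1 fun e' =>
          (List.nodup_cons.1 hnd).1 (e' ▸ hb')), mul_zero, sub_zero]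
    obtain ⟨A, hA⟩ : ∃ A, A = Finset.univ.filter
        (fun y => Q y ∧ gv lv y e = c ∧ ∀ b' ∈ l, gv lv y b' = 0) := ⟨_, rfl⟩
    obtain ⟨B, hB⟩ : ∃ B, B = Finset.univ.filter
        (fun y => Q y ∧ gv lv y e = c ∧ ∀ b' ∈ b :: l, gv lv y b' = 0) := ⟨_, rfl⟩
    rw [← hA, ← hB]
    have hQ' : ∀ t y, Q y → Q (mv S lv r t y) := fun t => hr ▸ hQ b List.mem_cons_self t
    have hf' : ∀ t y, Q y → f (mv S lv r t y) = f y := fun t => hr ▸ hf b List.mem_cons_self t
    have e1 : ∑ y ∈ A, f y = ∑ p ∈ (Finset.univ : Finset F) ×ˢ B, f p.2 := by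
      refine Finset.sum_bij' (fun y _ => (N * gv lv y b / c, mv S lv r (N * gv lv y b / c) y))
        (fun p _ => mv S lv r (-p.1) p.2) ?_ ?_ ?_ ?_ ?_
      · intro y hy
        simp only [hA, Finset.mem_filter, Finset.mem_univ, true_and] at hy
        obtain ⟨hyQ, hye, hyl⟩ := hy
        obtain ⟨k1, k2, k3⟩ := key (N * gv lv y b / c) y
        refine Finset.mem_product.2 ⟨Finset.mem_univ _, ?_⟩
        simp only [hB, Finset.mem_filter, Finset.mem_univ, true_and]
        refine ⟨hQ' _ y hyQ, k1.trans hye, fun b' hb' => ?_⟩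
        rcases List.mem_cons.1 hb' with rfl | hb'
        · rw [k2, hye]
          field_simp
          linear_combination (-gv lv y b') * hNN
        · rw [k3 b' hb', hyl b' hb']
      · intro p hp
        simp only [hB, Finset.mem_product, Finset.mem_filter, Finset.mem_univ, true_and] at hp
        obtain ⟨hyQ, hye, hyl⟩ := hp
        obtain ⟨k1, -, k3⟩ := key (-p.1) p.2
        simp only [hA, Finset.mem_filter, Finset.mem_univ, true_and]
        exact ⟨hQ' _ p.2 hyQ, k1.trans hye, fun b' hb' =>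
          (k3 b' hb').trans (hyl b' (List.mem_cons_of_mem _ hb'))⟩
      · intro y _
        exact C.mv_inv hrL _ y
      · intro p hp
        simp only [hB, Finset.mem_product, Finset.mem_filter, Finset.mem_univ, true_and] at hp
        obtain ⟨hyQ, hye, hyl⟩ := hp
        have k2 := (key (-p.1) p.2).2.1
        rw [hyl b List.mem_cons_self, hye, zero_sub] at k2
        have et : N * gv lv (mv S lv r (-p.1) p.2) b / c = p.1 := by
          rw [k2]
          field_simp
          linear_combination p.1 * hNN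
        show (_, _) = p
        rw [et]
        refine Prod.ext rfl ?_
        have := C.mv_inv hrL (-p.1) p.2
        rwa [neg_neg] at this
      · intro y hy
        simp only [hA, Finset.mem_filter, Finset.mem_univ, true_and] at hy
        exact (hf' _ y hy.1).symm
    rw [e1, Finset.sum_product]
    simp only [Finset.sum_const, Finset.card_univ]

end Ctx

end Cfsg.Agent.SimpleFacts.MinDegExc
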