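import Mathlib
import Cfsg.Agent.SimpleFacts.MinDegExc.Slices
import Cfsg.Agent.SimpleFacts.MinDegExc.Restrict

/-!
The characters of a radical with the given trace deficit: one orbit, each once; the fixed space and
the deficit there.
-/

set_option autoImplicit false
set_option linter.unusedSectionVars false

namespace Cfsg.Agent.SimpleFacts.MinDegExc

variable {F : Type*} [Field F] [Fintype F] {V : Type*} [AddCommGroup V] [Module ℂ V]
variable [FiniteDimensional ℂ V] {S : Sys} {lv : Lvl} {X : ℕ → F → Module.End ℂ V}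
variable {ψ : AddChar F ℂ}

/-- The character with one non-zero coordinate. -/
def dlt (lv : Lvl) (e : ℕ) (c : F) : Co lv → F := fun b => if b.1 = e then c else 0

theorem gv_dlt {e : ℕ} (he : e ∈ lv.R) (c : F) (u : ℕ) :
    gv lv (dlt lv e c) u = if u = e then c else 0 := by
  by_cases hu : u ∈ lv.R
  · rw [gv_mem _ hu]; rfl
  · rw [gv_not _ hu, if_neg]; rintro rfl; exact hu he

theorem Fam.P_eq_zero {ι : Type*} [Fintype ι] [DecidableEq ι] {Y : ι → F → Module.End ℂ V}
    (h : Fam Y) {y : ι → F} (hy : h.m ψ y = 0) : h.P ψ y = 0 :=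
  LinearMap.range_eq_bot.1 (Submodule.finrank_eq_zero.1 hy)

/-- The trace deficit on the radical is `q^(k+1)`. -/
def DefR (S : Sys) (lv : Lvl) (X : ℕ → F → Module.End ℂ V) : Prop :=
  ∀ b ∈ lv.R, ∀ t : F, t ≠ 0 → LinearMap.trace ℂ V (X b t) =
    (Module.finrank ℂ V : ℂ) - (Fintype.card F : ℂ) ^ (lv.k + 1)

/-- The number of non-trivial characters that occur. -/
def Lvl.cnt (S : Sys) (lv : Lvl) (q : ℕ) : ℕ :=
  (q - 1) * (lv.R.map fun e => q ^ lv.aExp S e).sum

/-- The number of those fixed by `a`. -/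
def Lvl.fixCnt (S : Sys) (lv : Lvl) (q : ℕ) : ℕ :=
  (q - 1) * (lv.R.map fun e => if lv.moved S lv.a e then 0 else q ^ lv.aExp S e).sum

/-- The coordinates above `e` vanish. -/
def Above (lv : Lvl) (e : ℕ) (y : Co lv → F) : Prop := ∀ x ∈ lv.R, e < x → gv lv y x = 0

namespace Ctx

open _root_.Classical in
/-- The multiplicities of the cleared characters add up to one. -/
theorem sum_W (C : Ctx S lv X) (hψ : ψ ≠ 1) (hD : DefR S lv X) {e : ℕ} (he : e ∈ lv.R) {c : F}
    (hc : c ≠ 0) : ∑ y ∈ Finset.univ.filter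
      (fun y => gv lv y e = c ∧ ∀ b ∈ lv.v1 S e, gv lv y b = 0), C.fam.m ψ y = 1 := by
  have hnd : (lv.v1 S e).Nodup := (nodup_of_incr C.incr_R).1.filter _
  have h1 := C.peel (C.fam.m ψ) he hc (fun _ => True) _ hnd (fun b hb => hb)
    (fun _ _ _ _ _ => trivial) fun b hb t y _ => C.m_mv hψ (C.mem_v1.1 hb).2.2 t y
  simp only [true_and, smul_eq_mul, C.v1_length he] at h1
  have h2 := C.fam.slice hψ ⟨e, he⟩ (hD e he) hc
  rw [Finset.filter_congr (q := fun y => gv lv y e = c) fun y _ => by rw [gv_mem _ he], h1] at h2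
  push_cast at h2
  rw [← mul_assoc, ← pow_succ'] at h2
  have hq : (Fintype.card F : ℂ) ^ (lv.k + 1) ≠ 0 :=
    pow_ne_zero _ (Nat.cast_ne_zero.2 Fintype.card_ne_zero)
  have h3 := mul_left_cancel₀ hq (h2.trans (mul_one _).symm)
  exact_mod_cast h3

open _root_.Classical in
/-- Only the character with one coordinate is left. -/
theorem m_W (C : Ctx S lv X) (hψ : ψ ≠ 1) (hD : DefR S lv X) {e : ℕ} (he : e ∈ lv.R) {c : F}
    (hc : c ≠ 0) {y : Co lv → F} (hye : gv lv y e = c)
    (hy : ∀ b ∈ lv.v1 S e, gv lv y b = 0) :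
    C.fam.m ψ y = if y = dlt lv e c then 1 else 0 := by
  obtain ⟨W, hW⟩ : ∃ W, W = Finset.univ.filter
      (fun y : Co lv → F => gv lv y e = c ∧ ∀ b ∈ lv.v1 S e, gv lv y b = 0) := ⟨_, rfl⟩
  have hsum : ∑ z ∈ W, C.fam.m ψ z = 1 := hW ▸ C.sum_W hψ hD he hc
  obtain ⟨w, hw, hw1⟩ := Finset.exists_ne_zero_of_sum_ne_zero (by rw [hsum]; exact one_ne_zero)
  have huniq : ∀ z ∈ W, C.fam.m ψ z ≠ 0 → z = w := by
    intro z hz hz0
    by_contra hne
    have h2 : C.fam.m ψ z + C.fam.m ψ w ≤ ∑ x ∈ W, C.fam.m ψ x := by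
      rw [← Finset.sum_pair hne]
      exact Finset.sum_le_sum_of_subset fun x hx => by
        rcases Finset.mem_insert.1 hx with rfl | hx
        exacts [hz, (Finset.mem_singleton.1 hx) ▸ hw]
    omega
  have hwm : C.fam.m ψ w = 1 :=
    le_antisymm (hsum ▸ Finset.single_le_sum (fun x _ => Nat.zero_le _) hw) (by omega)
  have hwW : gv lv w e = c ∧ ∀ b ∈ lv.v1 S e, gv lv w b = 0 := by
    have := hw; rw [hW, Finset.mem_filter] at this; exact this.2
  have kill : ∀ (supp : ℕ → Bool), (∀ u, gv lv w u ≠ 0 → supp u = true) →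
      ∀ g, lv.killed S supp e g = true → gv lv w g = 0 := by
    intro supp hsupp g hk
    simp only [Lvl.killed, List.any_eq_true, Bool.and_eq_true, List.all_eq_true,
      Bool.not_eq_true', beq_iff_eq, C.inL_iff] at hk
    obtain ⟨β, hβ, hrL, hsm, hsafe⟩ := hk
    obtain ⟨r, hr⟩ : ∃ r, r = S.sm g (S.ng β) := ⟨_, rfl⟩
    rw [← hr] at hrL hsm hsafe
    have h0 : ∀ b ∈ e :: lv.v1 S e, gv lv w (S.sm r b) = 0 := fun b hb => by
      by_contra h
      have h' := hsafe b hb
      rw [hsupp _ h] at h'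
      exact Bool.noConfusion h'
    have hmem : mv S lv r (1 : F) w ∈ W := by
      rw [hW, Finset.mem_filter]
      refine ⟨Finset.mem_univ _, ?_, fun b hb => ?_⟩
      · rw [gv_mv _ _ _ he, h0 e List.mem_cons_self, mul_zero, sub_zero, hwW.1]
      · rw [gv_mv _ _ _ (C.mem_v1.1 hb).1, h0 b (List.mem_cons_of_mem _ hb), mul_zero, sub_zero,
          hwW.2 b hb]
    have heq := huniq _ hmem (by rw [C.m_mv hψ hrL, hwm]; exact one_ne_zero)
    have hβ' := congrArg (fun z => gv lv z β) heq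
    simp only [gv_mv _ _ _ hβ, hsm, mul_one, sub_eq_self, mul_eq_zero] at hβ'
    exact hβ'.resolve_left (S.sgn_ne r β)
  have hkill := (C.at_e he).2.2.1
  simp only [Lvl.killChk, List.all_eq_true] at hkill
  have hsupp1 : ∀ u, gv lv w u ≠ 0 → (lv.inR S u && !lv.isV1 S e u) = true := by
    intro u hu
    have huR : u ∈ lv.R := by_contra fun h => hu (gv_not _ h)
    rw [(C.inR_iff u).2 huR, Bool.true_and, Bool.not_eq_true', Bool.eq_false_iff]
    exact fun h => hu (hwW.2 u (List.mem_filter.2 ⟨huR, h⟩))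
  have round1 : ∀ g ∈ lv.R, g ≠ e → g ≠ lv.st e → gv lv w g = 0 := by
    intro g hg h1 h2
    have h := hkill g hg
    simp only [beq_eq_false_iff_ne.2 h1, Bool.false_or, beq_eq_false_iff_ne.2 h2, cond_false,
      Bool.or_eq_true] at h
    rcases h with h | h
    · exact hwW.2 g (List.mem_filter.2 ⟨hg, h⟩)
    · exact kill _ hsupp1 g h
  have round2 : ∀ g ∈ lv.R, g ≠ e → gv lv w g = 0 := by
    intro g hg h1
    by_cases h2 : g = lv.st e
    · have h := hkill g hg
      simp only [beq_eq_false_iff_ne.2 h1, Bool.false_or, beq_iff_eq.2 h2, cond_true,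
        Bool.or_eq_true] at h
      rcases h with h | h
      · exact hwW.2 g (List.mem_filter.2 ⟨hg, h⟩)
      · refine kill _ (fun u hu => ?_) g h
        have huR : u ∈ lv.R := by_contra fun h => hu (gv_not _ h)
        rw [(C.inR_iff u).2 huR, Bool.true_and, Bool.or_eq_true, beq_iff_eq, beq_iff_eq]
        by_contra hne
        push Not at hne
        exact hu (round1 u huR hne.1 (h2 ▸ hne.2))
    · exact round1 g hg h1 h2
  have hwd : w = dlt lv e c := by
    funext b
    rw [dlt]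
    by_cases hb : b.1 = e
    · rw [if_pos hb, ← gv_mem w b.2, hb, hwW.1]
    · rw [if_neg hb, ← gv_mem w b.2, round2 b.1 b.2 hb]
  have hyW : y ∈ W := by rw [hW, Finset.mem_filter]; exact ⟨Finset.mem_univ _, hye, hy⟩
  split_ifs with hy'
  · rw [hy', ← hwd, hwm]
  · by_contra h
    exact hy' ((huniq y hyW h).trans hwd)

open _root_.Classical in
/-- The sum over the characters with leading coordinate `c` at `e`. -/
theorem sum_T (C : Ctx S lv X) (hψ : ψ ≠ 1) (hD : DefR S lv X) {M : Type*} [AddCommMonoid M]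
    (f : (Co lv → F) → M) (hf0 : ∀ y, C.fam.m ψ y = 0 → f y = 0) {e : ℕ} (he : e ∈ lv.R)
    (hf : ∀ b ∈ lv.v1b S e, ∀ t y, f (mv S lv (Lvl.rb S e b) t y) = f y) {c : F} (hc : c ≠ 0) :
    ∑ y ∈ Finset.univ.filter (fun y => Above lv e y ∧ gv lv y e = c), f y =
      (Fintype.card F ^ lv.aExp S e) • f (dlt lv e c) := by
  have hr := (C.at_e he).2.1
  simp only [Lvl.raiseChk, List.all_eq_true, Bool.and_eq_true, Bool.or_eq_true,
    Bool.not_eq_true', C.inR_false, Nat.blt_eq] at hr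
  have hnd : (lv.v1b S e).Nodup := ((nodup_of_incr C.incr_R).1.filter _).filter _
  have hsub : ∀ b ∈ lv.v1b S e, b ∈ lv.v1 S e := fun b hb => (List.mem_filter.1 hb).1
  rw [C.peel f he hc (Above lv e) _ hnd hsub (fun b hb t y hy x hx hlt => by
      rw [gv_mv _ _ _ hx, hy x hx hlt]
      by_cases hu : S.sm (Lvl.rb S e b) x ∈ lv.R
      · rw [hy _ hu (hlt.trans (((hr b hb).1 x hx).resolve_left (fun h => h hu))), mul_zero,
          sub_zero]
      · rw [gv_not _ hu, mul_zero, sub_zero]) (fun b hb t y _ => hf b hb t y), Lvl.aExp]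
  congr 1
  refine Finset.sum_eq_single_of_mem (dlt lv e c) ?_ ?_
  · simp only [Finset.mem_filter, Finset.mem_univ, true_and]
    refine ⟨fun x _ hlt => ?_, ?_, fun b hb => ?_⟩
    · rw [gv_dlt he, if_neg hlt.ne']
    · rw [gv_dlt he, if_pos rfl]
    · rw [gv_dlt he, if_neg (C.mem_v1.1 (hsub b hb)).2.1]
  · intro y hy hne
    simp only [Finset.mem_filter, Finset.mem_univ, true_and] at hy
    obtain ⟨hQ, hye, hb⟩ := hy
    refine hf0 y ?_
    rw [C.m_W hψ hD he hc hye fun b hbv => ?_, if_neg hne]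
    obtain ⟨hbR, hbe, -⟩ := C.mem_v1.1 hbv
    rcases Nat.lt_or_gt_of_ne hbe with h | h
    · exact hb b (List.mem_filter.2 ⟨hbv, by simpa [Nat.blt_eq] using h⟩)
    · exact hQ b hbR h

open _root_.Classical in
/-- Splitting by the leading coordinate. -/
theorem sum_split (C : Ctx S lv X) {M : Type*} [AddCommMonoid M] (f : (Co lv → F) → M) :
    ∑ y, f y = f 0 + ∑ e : Co lv, ∑ c ∈ (Finset.univ : Finset F).erase 0,
      ∑ y ∈ Finset.univ.filter
        (fun y => Above lv e.1 y ∧ gv lv y e.1 = c), f y := by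
  rw [← Finset.add_sum_erase _ _ (Finset.mem_univ (0 : Co lv → F)),
    ← Finset.sum_product' (Finset.univ : Finset (Co lv))]
  congr 1
  rw [← Finset.sum_biUnion]
  · refine Finset.sum_congr ?_ fun _ _ => rfl
    ext y
    simp only [Finset.mem_erase, Finset.mem_univ, and_true, Finset.mem_biUnion,
      Finset.mem_product, true_and, Finset.mem_filter]
    constructor
    · intro hy
      obtain ⟨b, hb⟩ := Function.ne_iff.1 hy
      obtain ⟨e, he, hmax⟩ := Finset.exists_max_image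
        (Finset.univ.filter fun b : Co lv => y b ≠ 0) (fun b => b.1)
        ⟨b, Finset.mem_filter.2 ⟨Finset.mem_univ _, hb⟩⟩
      refine ⟨(e, y e), (Finset.mem_filter.1 he).2, fun x hx hlt => ?_, gv_mem y e.2⟩
      by_contra hne
      rw [gv_mem y hx] at hne
      exact absurd (hmax ⟨x, hx⟩ (Finset.mem_filter.2 ⟨Finset.mem_univ _, hne⟩)) (not_le.2 hlt)
    · rintro ⟨p, hp, -, hpe⟩ rfl
      rw [gv_zero] at hpe
      exact hp hpe.symm
  · intro p hp p' hp' hne
    simp only [Finset.coe_product, Set.mem_prod, Finset.mem_coe, Finset.mem_univ, true_and,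
      Finset.mem_erase, and_true] at hp hp'
    refine Finset.disjoint_left.2 fun y h1 h2 => hne ?_
    simp only [Finset.mem_filter, Finset.mem_univ, true_and] at h1 h2
    have he : p.1.1 = p'.1.1 := by
      rcases Nat.lt_trichotomy p.1.1 p'.1.1 with h | h | h
      · exact absurd (h2.2.symm.trans (h1.1 _ p'.1.2 h)) hp'
      · exact h
      · exact absurd (h1.2.symm.trans (h2.1 _ p.1.2 h)) hp
    refine Prod.ext (Subtype.ext he) ?_
    rw [← h1.2, ← h2.2, he]

theorem sum_co (C : Ctx S lv X) {M : Type*} [AddCommMonoid M] (f : ℕ → M) :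
    ∑ e : Co lv, f e.1 = (lv.R.map f).sum := by
  rw [← List.sum_toFinset f (nodup_of_incr C.incr_R).1]
  exact (Finset.sum_subtype lv.R.toFinset (fun x => List.mem_toFinset) f).symm

/-- The degree. -/
theorem finrank_eq (C : Ctx S lv X) (hψ : ψ ≠ 1) (hD : DefR S lv X) :
    Module.finrank ℂ V = C.fam.m ψ 0 + lv.cnt S (Fintype.card F) := by
  classical
  rw [← C.fam.sum_m hψ, C.sum_split (C.fam.m ψ), Lvl.cnt, ← C.sum_co, Finset.mul_sum]
  congr 1
  refine Finset.sum_congr rfl fun e _ => ?_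
  rw [Finset.sum_congr rfl fun c hc => C.sum_T hψ hD (C.fam.m ψ) (fun y hy => hy) e.2
    (fun b hb t y => C.m_mv hψ (C.mem_v1.1 (List.mem_filter.1 hb).1).2.2 t y)
    (Finset.ne_of_mem_erase hc)]
  have h1 : ∀ c ∈ (Finset.univ : Finset F).erase 0,
      (Fintype.card F ^ lv.aExp S e.1) • C.fam.m ψ (dlt lv e.1 c) =
        Fintype.card F ^ lv.aExp S e.1 := fun c hc => by
    have hc0 := Finset.ne_of_mem_erase hc
    rw [C.m_W hψ hD e.2 hc0 (by rw [gv_dlt e.2, if_pos rfl])
      (fun b hb => by rw [gv_dlt e.2, if_neg (C.mem_v1.1 hb).2.1]), if_pos rfl, smul_eq_mul,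
      mul_one]
  rw [Finset.sum_congr rfl h1, Finset.sum_const, Finset.card_erase_of_mem (Finset.mem_univ _),
    Finset.card_univ, smul_eq_mul]

/-- The trace of `a` on a line of the orbit. -/
theorem trace_dlt (C : Ctx S lv X) (hψ : ψ ≠ 1) (hD : DefR S lv X) {e : ℕ} (he : e ∈ lv.R)
    {c t : F} (hc : c ≠ 0) (ht : t ≠ 0) :
    LinearMap.trace ℂ V (X lv.a t * C.fam.P ψ (dlt lv e c)) =
      if lv.moved S lv.a e then 0 else 1 := by
  classical
  have ha : lv.a ∈ lv.a :: lv.L := List.mem_cons_self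
  have hm : C.fam.m ψ (dlt lv e c) = 1 := by
    rw [C.m_W hψ hD he hc (by rw [gv_dlt he, if_pos rfl])
      (fun b hb => by rw [gv_dlt he, if_neg (C.mem_v1.1 hb).2.1]), if_pos rfl]
  by_cases hmv : lv.moved S lv.a e = true
  · rw [if_pos hmv]
    refine (C.moves (ψ := ψ) ha t).trace_moved hψ fun h => ?_
    simp only [Lvl.moved, List.any_eq_true, beq_iff_eq] at hmv
    obtain ⟨b, hb, hbe⟩ := hmv
    have h' := congrArg (fun z => gv lv z b) h
    simp only [gv_mv _ _ _ hb, sub_eq_self, mul_eq_zero, hbe, gv_dlt he, if_true] at h'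
    rcases h' with (h' | h') | h'
    exacts [S.sgn_ne _ _ h', ht h', hc h']
  rw [if_neg hmv]
  have hfix : ∀ r ∈ lv.a :: lv.L, lv.moved S r e = false → ∀ s : F,
      Commute (X r s) (C.fam.P ψ (dlt lv e c)) := by
    intro r hr hrm s
    refine (C.moves hr s).commute hψ (funext fun b => ?_)
    have h1 : gv lv (dlt lv e c) (S.sm r b.1) = 0 := by
      rw [gv_dlt he, if_neg]
      intro h
      rw [Bool.eq_false_iff] at hrm
      exact hrm (List.any_eq_true.2 ⟨b.1, b.2, beq_iff_eq.2 h⟩)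
    simp [mv, h1]
  have hph := (C.at_e he).2.2.2
  simp only [Lvl.phaseChk, Bool.eq_false_iff.2 hmv, Bool.false_or, List.any_eq_true,
    Bool.and_eq_true, Bool.not_eq_true', beq_iff_eq, C.inL_iff] at hph
  obtain ⟨r, hr, hs, hrs, hr1, hs1⟩ := hph
  obtain ⟨s, hsdef⟩ : ∃ s, s = S.sm lv.a (S.ng r) := ⟨_, rfl⟩
  rw [← hsdef] at hs hrs hs1
  have hr' := List.mem_cons_of_mem lv.a hr
  have hn : S.sm r s ≠ S.n := by
    rw [hrs]
    have h := (C.inL_iff lv.a).2 ha
    simp only [Lvl.inL, inM, Bool.and_eq_true, Nat.blt_eq] at h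
    exact h.1.ne
  have e1 := C.rg.conj r (C.memL hr') s (C.memL hs) hn (by rw [hrs]; exact C.memL ha) 1
    (S.sgn F r s * t)
  rw [hrs, mul_one, ← mul_assoc (S.sgn F r s), S.sgn_sq, one_mul] at e1
  rw [phase (C.fam.P_idem hψ _) (by rw [C.fam.trace_P hψ, hm, Nat.cast_one])
    (hfix r hr' hr1 1) (hfix s hs hs1 _) (hfix lv.a ha (Bool.eq_false_iff.2 hmv) t)
    (C.rg.neg_mul (C.memL hr') 1) (C.rg.neg_mul (C.memL hs) _) e1, C.fam.trace_P hψ, hm,
    Nat.cast_one]

/-- The trace of `a` on the fixed space. -/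
theorem trace_fixed (C : Ctx S lv X) (hψ : ψ ≠ 1) (hD : DefR S lv X) {t : F} (ht : t ≠ 0) :
    LinearMap.trace ℂ V (X lv.a t) = LinearMap.trace ℂ V (X lv.a t * C.fam.P ψ 0) +
      (lv.fixCnt S (Fintype.card F) : ℂ) := by
  classical
  rw [C.fam.trace_eq hψ, C.sum_split, Lvl.fixCnt, ← C.sum_co, Finset.mul_sum]
  congr 1
  rw [Nat.cast_sum]
  refine Finset.sum_congr rfl fun e _ => ?_
  have hr := (C.at_e e.2).2.1
  simp only [Lvl.raiseChk, List.all_eq_true, Bool.and_eq_true, Bool.not_eq_true', beq_iff_eq,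
    beq_eq_false_iff_ne] at hr
  rw [Finset.sum_congr rfl fun c hc => C.sum_T hψ hD
    (fun y => LinearMap.trace ℂ V (X lv.a t * C.fam.P ψ y))
    (fun y hy => by rw [C.fam.P_eq_zero hy, mul_zero, map_zero]) e.2
    (fun b hb s y => ((C.moves (C.mem_v1.1 (List.mem_filter.1 hb).1).2.2 s).trace_shift hψ
      (C.rg.mul_neg (C.memL (C.mem_v1.1 (List.mem_filter.1 hb).1).2.2) s)
      (C.rg.comm lv.a (C.memL List.mem_cons_self) _
        (C.memL (C.mem_v1.1 (List.mem_filter.1 hb).1).2.2) (hr b hb).2.2 (hr b hb).2.1 t s) y))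
    (Finset.ne_of_mem_erase hc)]
  rw [Finset.sum_congr rfl fun c hc => by
    rw [C.trace_dlt hψ hD e.2 (Finset.ne_of_mem_erase hc) ht], Finset.sum_const,
    Finset.card_erase_of_mem (Finset.mem_univ _), Finset.card_univ]
  by_cases hm : lv.moved S lv.a e.1 = true
  · simp [hm]
  · simp [hm]

/-- The fixed space of the radical with the complement acting. -/
theorem step (C : Ctx S lv X) (hψ : ψ ≠ 1) (hD : DefR S lv X) :
    IsRG S (lv.a :: lv.L) (fun r t => res (C.fam.P ψ 0) (X r t)) ∧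
    Module.finrank ℂ V = Module.finrank ℂ (LinearMap.range (C.fam.P ψ 0)) +
      lv.cnt S (Fintype.card F) ∧
    ∀ D : ℂ, (∀ t : F, t ≠ 0 →
      LinearMap.trace ℂ V (X lv.a t) = (Module.finrank ℂ V : ℂ) - D) →
      ∀ t : F, t ≠ 0 → LinearMap.trace ℂ (LinearMap.range (C.fam.P ψ 0))
          (res (C.fam.P ψ 0) (X lv.a t)) =
        (Module.finrank ℂ (LinearMap.range (C.fam.P ψ 0)) : ℂ) -
          (D - ((lv.cnt S (Fintype.card F) : ℂ) - (lv.fixCnt S (Fintype.card F) : ℂ))) := by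
  have hcom : ∀ r ∈ lv.a :: lv.L, ∀ s, Commute (X r s) (C.fam.P ψ 0) := fun r hr s =>
    (C.moves hr s).commute hψ (funext fun b => by simp [mv, gv_zero])
  have hk := C.finrank_eq hψ hD
  refine ⟨isRG_res (C.rg.mono fun r hr => C.memL hr) hcom, hk, fun D hDa t ht => ?_⟩
  rw [trace_res (C.fam.P_idem hψ 0) (hcom _ List.mem_cons_self t)]
  have h1 := C.trace_fixed hψ hD ht
  rw [hDa t ht, hk] at h1
  push_cast at h1
  have h2 : (Module.finrank ℂ (LinearMap.range (C.fam.P ψ 0)) : ℂ) = (C.fam.m ψ 0 : ℂ) := rfl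
  rw [h2]
  linear_combination -h1

end Ctx

end Cfsg.Agent.SimpleFacts.MinDegExc
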