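import Mathlib
import Cfsg.Agent.SimpleFacts.MinDegExc.Orbit

/-!
The unipotent radical of the normaliser of a root subgroup: a Heisenberg radical.
-/

set_option autoImplicit false
set_option linter.unusedSectionVars false

namespace Cfsg.Agent.SimpleFacts.MinDegExc

variable {F : Type*} [Field F] [Fintype F] {V : Type*} [AddCommGroup V] [Module ℂ V]
variable [FiniteDimensional ℂ V]

/-- The data of a Heisenberg radical: the centre, the other roots in a connected order, the level of
the quotient, and the centre of a polarisation. -/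
structure Top where
  th : ℕ
  rest : List ℕ
  lv : Lvl
  e0 : ℕ

variable (S : Sys) (T : Top)

/-- The partner in the radical. -/
def Top.bs (b : ℕ) : ℕ := S.sm T.th (S.ng b)

/-- The polarisation. -/
def Top.pol : List ℕ := T.e0 :: T.lv.v1 S T.e0

/-- `b` is in the image of the move of `a`. -/
def Top.img (b : ℕ) : Bool := (T.pol S).any fun c => S.sm T.lv.a c == b

/-- The number of coordinates fixed by `a`. -/
def Top.nfix : ℕ := ((T.pol S).filter fun b => !T.img S b).length

/-- The move of `r` preserves the polarisation. -/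
def Top.polStable (r : ℕ) : Bool :=
  (T.pol S).all fun b => !(b == S.ng r) &&
    ((S.sm r b == S.n) || ((T.pol S).contains (S.sm r b) &&
      !(T.pol S).contains (S.sm r (S.sm r b))))

/-- The whole check. -/
def Top.chk : Bool :=
  T.lv.chk S && (T.lv.inR S T.e0 && ((T.lv.roots.all fun r => T.rest.contains r) &&
  (connChk S (T.th :: T.rest) [T.th] T.rest &&
  ((T.lv.roots.all fun r => !(r == S.ng T.th) && (S.sm T.th r == S.n)) &&
  ((T.lv.R.all fun b => T.lv.R.all fun c => (S.sm b c == S.n && !(c == S.ng b)) || (S.sm b c == T.th && !(T.th == S.n))) &&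
  ((T.lv.R.all fun b => T.lv.inR S (T.bs S b) && (S.sm (T.bs S b) b == T.th) && !(T.th == S.n)) &&
  (((T.pol S).all fun b => (T.pol S).all fun c => (S.sm b c == S.n && !(c == S.ng b))) &&
  (((T.pol S).all fun b => (T.pol S).all fun c => c == b || (S.sm (T.bs S b) c == S.n && !(c == S.ng (T.bs S b)))) &&
  (T.polStable S T.lv.a &&
  (((T.pol S).all fun b => T.img S b || (S.sm T.lv.a (T.bs S b) == S.n && !(T.bs S b == S.ng T.lv.a))) &&
  (T.lv.L.any fun r => T.lv.inL S (S.sm T.lv.a (S.ng r)) && ((S.sm r (S.sm T.lv.a (S.ng r)) == T.lv.a) &&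
      (T.polStable S r && T.polStable S (S.sm T.lv.a (S.ng r)))))))))))))))

variable {S T}

/-- The facts of the check. -/
structure TopOK (S : Sys) (T : Top) : Prop where
  lvl : T.lv.chk S = true
  e0 : T.e0 ∈ T.lv.R
  sub : ∀ r ∈ T.lv.roots, r ∈ T.rest
  conn : connChk S (T.th :: T.rest) [T.th] T.rest = true
  thc : ∀ r ∈ T.lv.roots, r ≠ S.ng T.th ∧ S.sm T.th r = S.n
  heis : ∀ b ∈ T.lv.R, ∀ c ∈ T.lv.R,
    (S.sm b c = S.n ∧ c ≠ S.ng b) ∨ (S.sm b c = T.th ∧ T.th ≠ S.n)
  bsR : ∀ b ∈ T.lv.R, T.bs S b ∈ T.lv.R ∧ S.sm (T.bs S b) b = T.th ∧ T.th ≠ S.n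
  polc : ∀ b ∈ T.pol S, ∀ c ∈ T.pol S, S.sm b c = S.n ∧ c ≠ S.ng b
  bsc : ∀ b ∈ T.pol S, ∀ c ∈ T.pol S, c ≠ b → S.sm (T.bs S b) c = S.n ∧ c ≠ S.ng (T.bs S b)
  astab : T.polStable S T.lv.a = true
  afix : ∀ b ∈ T.pol S, T.img S b = false →
    S.sm T.lv.a (T.bs S b) = S.n ∧ T.bs S b ≠ S.ng T.lv.a
  dec : ∃ r ∈ T.lv.L, ∃ s ∈ T.lv.a :: T.lv.L,
    S.sm r s = T.lv.a ∧ T.polStable S r = true ∧ T.polStable S s = true

theorem topOK (h : T.chk S = true) : TopOK S T := by
  simp only [Top.chk, Bool.and_eq_true, List.all_eq_true, List.any_eq_true, Bool.or_eq_true,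
    Bool.not_eq_true', beq_iff_eq, beq_eq_false_iff_ne, List.contains_iff_mem] at h
  obtain ⟨hlv, he0, hsub, hconn, hthc, hheis, hbsR, hpolc, hbsc, hast, hafix, r, hr, hs, hrs, hr1,
    hs1⟩ := h
  have hM := hlv
  simp only [Lvl.chk, Bool.and_eq_true] at hM
  exact ⟨hlv, (inM_iff hM.2.1 _).1 he0, hsub, hconn, hthc, hheis,
    fun b hb => ⟨(inM_iff hM.2.1 _).1 (hbsR b hb).1.1, (hbsR b hb).1.2, (hbsR b hb).2⟩,
    hpolc, fun b hb c hc hne => (hbsc b hb c hc).resolve_left hne, hast,
    fun b hb hi => (hafix b hb).resolve_left (by rw [hi]; exact Bool.false_ne_true),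
    r, hr, _, (inM_iff hM.2.2.1 _).1 hs, hrs, hr1, hs1⟩

/-- Root elements preserving a commuting list of roots move its characters. -/
theorem moves_list {P R : List ℕ} {Y : ℕ → F → Module.End ℂ V} (hY : IsRG S P Y)
    (hR : ∀ b ∈ R, b ∈ P) (hn : S.n ∉ R) (hfam : Fam (ι := {b // b ∈ R}) fun b t => Y b.1 t)
    {r : ℕ} (hr : r ∈ P)
    (hst : ∀ b ∈ R, b ≠ S.ng r ∧ (S.sm r b = S.n ∨ (S.sm r b ∈ R ∧ S.sm r (S.sm r b) ∉ R)))
    (ψ : AddChar F ℂ) (t : F) :
    Moves hfam ψ (Y r t) (fun z d => z d - S.sgn F r d.1 * t *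
      (if h : S.sm r d.1 ∈ R then z ⟨_, h⟩ else 0)) := by
  refine ⟨fun z z' h => funext fun d => ?_, fun z d u => ?_⟩
  · have h1 := congrFun h d
    dsimp only at h1
    by_cases hu : S.sm r d.1 ∈ R
    · rcases (hst d.1 d.2).2 with h2 | ⟨-, h2⟩
      · exact absurd (h2 ▸ hu) hn
      have h3 := congrFun h ⟨_, hu⟩
      dsimp only at h3
      rw [dif_neg h2, dif_neg h2] at h3
      simp only [mul_zero, sub_zero] at h3
      rw [dif_pos hu, dif_pos hu, h3, sub_left_inj] at h1
      exact h1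
    · rwa [dif_neg hu, dif_neg hu, sub_left_inj] at h1
  obtain ⟨hbr, hcase⟩ := hst d.1 d.2
  have hdR := hR _ d.2
  show Y d.1 u * (Y r t * _) = _
  dsimp only
  rcases hcase with hnn | ⟨hu, -⟩
  · rw [dif_neg (fun h : S.sm r d.1 ∈ R => hn (hnn ▸ h)), mul_zero, sub_zero, ← mul_assoc,
      ← (hY.comm r hr _ hdR hbr hnn t u).eq, mul_assoc, hfam.X_mul_P z d u, mul_smul_comm]
  · have hnn : S.sm r d.1 ≠ S.n := fun h => hn (h ▸ hu)
    rw [dif_pos hu]
    have e := hY.conj r hr _ hdR hnn (hR _ hu) (-t) u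
    calc Y d.1 u * (Y r t * hfam.P ψ z)
        = Y r t * (Y r (-t) * Y d.1 u) * (Y r t * hfam.P ψ z) := by
          rw [← mul_assoc (Y r t) (Y r (-t)), hY.mul_neg hr, one_mul]
      _ = Y r t * (Y (S.sm r d.1) (S.sgn F r d.1 * -t * u) * (Y d.1 u *
            ((Y r (-t) * Y r t) * hfam.P ψ z))) := by
          rw [e]; simp only [mul_assoc]
      _ = ψ (z d * u) • ψ (z ⟨_, hu⟩ * (S.sgn F r d.1 * -t * u)) • (Y r t * hfam.P ψ z) := by
          rw [hY.neg_mul hr, one_mul, hfam.X_mul_P z d u, mul_smul_comm,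
            hfam.X_mul_P z ⟨_, hu⟩ _, mul_smul_comm, mul_smul_comm]
      _ = _ := by
          rw [smul_smul, ← AddChar.map_add_eq_mul]
          congr 2
          ring

namespace TopOK

variable (H : TopOK S T) {X : ℕ → F → Module.End ℂ V} {ψ : AddChar F ℂ}
variable (hX : IsRG S (T.th :: T.rest) X)

include H

theorem memP {r : ℕ} (hr : r ∈ T.lv.roots) : r ∈ T.th :: T.rest :=
  List.mem_cons_of_mem _ (H.sub r hr)

theorem memR {b : ℕ} (hb : b ∈ T.lv.R) : b ∈ T.th :: T.rest :=
  H.memP (List.mem_append_left _ hb)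

theorem polR {b : ℕ} (hb : b ∈ T.pol S) : b ∈ T.lv.R := by
  rcases List.mem_cons.1 hb with rfl | hb
  exacts [H.e0, (List.mem_filter.1 hb).1]

theorem pol_nodup : (T.pol S).Nodup := by
  have h := H.lvl
  simp only [Lvl.chk, Bool.and_eq_true] at h
  refine List.nodup_cons.2 ⟨fun hm => ?_, (nodup_of_incr h.1).1.filter _⟩
  have := (List.mem_filter.1 hm).2
  simp [Lvl.isV1] at this

theorem pol_length : (T.pol S).length = T.lv.k + 1 := by
  have h := H.lvl
  simp only [Lvl.chk, Bool.and_eq_true] at h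
  have h' := List.all_eq_true.1 h.2.2.2.2 T.e0 H.e0
  simp only [Bool.and_eq_true, Lvl.isoChk, beq_iff_eq] at h'
  rw [Top.pol, List.length_cons, h'.1.1]

include hX

/-- The centre as a family. -/
theorem zfam : Fam (ι := Unit) fun _ t => X T.th t where
  zero _ := hX.zero _ List.mem_cons_self
  add _ := hX.add _ List.mem_cons_self
  comm _ _ t u := by
    show X T.th t * X T.th u = X T.th u * X T.th t
    rw [← hX.add _ List.mem_cons_self, ← hX.add _ List.mem_cons_self, add_comm]

/-- The projection on a character of the centre. -/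
noncomputable def Ec (ψ : AddChar F ℂ) (c : F) : Module.End ℂ V :=
  (H.zfam hX).P ψ fun _ => c

theorem th_mul_Ec (c t : F) : X T.th t * H.Ec hX ψ c = ψ (c * t) • H.Ec hX ψ c :=
  (H.zfam hX).X_mul_P (fun _ => c) () t

theorem comm_Ec (hψ : ψ ≠ 1) {r : ℕ} (hr : r ∈ T.lv.roots) (t c : F) :
    Commute (X r t) (H.Ec hX ψ c) := by
  refine Moves.commute (f := id) hψ ⟨Function.injective_id, fun z b u => ?_⟩ rfl
  show X T.th u * (X r t * (H.zfam hX).P ψ z) = _
  rw [← mul_assoc, (hX.comm _ List.mem_cons_self r (H.memP hr) (H.thc r hr).1 (H.thc r hr).2 u t).eq,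
    mul_assoc, (H.zfam hX).X_mul_P z b u, mul_smul_comm]
  rfl

/-- The radical relation on the space of a central character. -/
theorem bs_rel (hψ : ψ ≠ 1) {b : ℕ} (hb : b ∈ T.lv.R) (c s t : F) :
    X (T.bs S b) s * X b t * H.Ec hX ψ c = ψ (c * (S.sgn F (T.bs S b) b * s * t)) •
      (X b t * X (T.bs S b) s * H.Ec hX ψ c) := by
  obtain ⟨h1, h2, h3⟩ := H.bsR b hb
  have e := hX.conj _ (H.memR h1) b (H.memR hb) (by rw [h2]; exact h3)
    (by rw [h2]; exact List.mem_cons_self) s t
  rw [h2] at e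
  rw [e, mul_assoc, ((H.comm_Ec hX hψ (List.mem_append_left _ hb) t c).mul_left
    (H.comm_Ec hX hψ (List.mem_append_left _ h1) s c)).eq, ← mul_assoc, H.th_mul_Ec hX,
    smul_mul_assoc]

open _root_.Classical in
/-- Radical elements have trace zero on the non-trivial central characters. -/
theorem trace_rad (hψ : ψ ≠ 1) {b : ℕ} (hb : b ∈ T.lv.R) {c t : F} (hc : c ≠ 0) (ht : t ≠ 0) :
    LinearMap.trace ℂ V (X b t * H.Ec hX ψ c) = 0 := by
  obtain ⟨h1, -, -⟩ := H.bsR b hb
  obtain ⟨u, hu⟩ := AddChar.ne_one_iff.1 hψ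
  obtain ⟨N, hN⟩ : ∃ N, N = S.sgn F (T.bs S b) b := ⟨_, rfl⟩
  obtain ⟨s, hs⟩ : ∃ s, s = u / (c * N * t) := ⟨_, rfl⟩
  have hcn : c * N * t ≠ 0 := mul_ne_zero (mul_ne_zero hc (hN ▸ S.sgn_ne _ _)) ht
  have hsu : c * (N * s * t) = u := by
    rw [show c * (N * s * t) = s * (c * N * t) by ring, hs, div_mul_cancel₀ _ hcn]
  have e := H.bs_rel hX (ψ := ψ) hψ hb c s t
  rw [← hN, hsu, mul_assoc (X b t), (H.comm_Ec hX hψ (List.mem_append_left _ h1) s c).eq,
    ← mul_assoc (X b t)] at e
  have e2 := congrArg (fun A => LinearMap.trace ℂ V (A * X (T.bs S b) (-s))) e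
  simp only [smul_mul_assoc, map_smul, smul_eq_mul] at e2
  rw [mul_assoc _ (X (T.bs S b) s) (X (T.bs S b) (-s)), hX.mul_neg (H.memR h1), mul_one,
    LinearMap.trace_mul_comm, ← mul_assoc, ← mul_assoc, hX.neg_mul (H.memR h1), one_mul] at e2
  by_contra h
  exact hu (mul_right_cancel₀ h (e2.symm.trans (one_mul _).symm))

/-- The representation on the space of a central character. -/
theorem rg_c (hψ : ψ ≠ 1) (c : F) :
    IsRG S T.lv.roots (fun r t => res (H.Ec hX ψ c) (X r t)) :=
  isRG_res (hX.mono fun r hr => H.memP hr) fun r hr t => H.comm_Ec hX hψ hr t c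

theorem polfam (hψ : ψ ≠ 1) (c : F) :
    Fam (ι := {b // b ∈ T.pol S}) fun b t => res (H.Ec hX ψ c) (X b.1 t) := by
  have hm : ∀ b : {b // b ∈ T.pol S}, b.1 ∈ T.lv.roots := fun b =>
    List.mem_append_left _ (H.polR b.2)
  exact ⟨fun b => (H.rg_c hX hψ c).zero _ (hm b), fun b => (H.rg_c hX hψ c).add _ (hm b),
    fun b d => (H.rg_c hX hψ c).comm _ (hm b) _ (hm d) (H.polc _ b.2 _ d.2).2
      (H.polc _ b.2 _ d.2).1⟩

theorem shift (hψ : ψ ≠ 1) {b : ℕ} (hb : b ∈ T.pol S) (c s : F) :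
    Moves (H.polfam hX hψ c) ψ (res (H.Ec hX ψ c) (X (T.bs S b) s))
      (fun z d => if d.1 = b then z d - c * (S.sgn F (T.bs S b) b * s) else z d) := by
  obtain ⟨h1, -, -⟩ := H.bsR b (H.polR hb)
  refine ⟨fun z z' h => funext fun d => ?_, fun z d t => ?_⟩
  · have := congrFun h d
    dsimp only at this
    by_cases hd : d.1 = b
    · rwa [if_pos hd, if_pos hd, sub_left_inj] at this
    · rwa [if_neg hd, if_neg hd] at this
  have hd1 := H.comm_Ec hX hψ (List.mem_append_left _ (H.polR d.2)) t c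
  have hb1 := H.comm_Ec hX hψ (List.mem_append_left _ h1) s c
  show res _ (X d.1 t) * (res _ (X (T.bs S b) s) * _) = _
  rw [← mul_assoc, ← res_mul hd1 hb1]
  dsimp only
  by_cases hd : d.1 = b
  · rw [if_pos hd]
    have e := H.bs_rel hX (ψ := ψ) hψ (H.polR hb) c s t
    rw [← hd] at e hb1 ⊢
    obtain ⟨N, hN⟩ : ∃ N, N = S.sgn F (T.bs S d.1) d.1 := ⟨_, rfl⟩
    rw [← hN] at e ⊢
    have e' : res (H.Ec hX ψ c) (X d.1 t * X (T.bs S d.1) s) =
        ψ (-(c * (N * s * t))) • (res (H.Ec hX ψ c) (X (T.bs S d.1) s) *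
          res (H.Ec hX ψ c) (X d.1 t)) := by
      rw [← res_mul hb1 hd1]
      refine LinearMap.ext fun x => Subtype.ext ?_
      obtain ⟨w, hw⟩ := x.2
      rw [res_val (hd1.mul_left hb1), LinearMap.smul_apply, Submodule.coe_smul,
        res_val (hb1.mul_left hd1), ← hw]
      have := LinearMap.congr_fun e w
      simp only [LinearMap.smul_apply, Module.End.mul_apply] at this
      simp only [Module.End.mul_apply]
      rw [this, smul_smul, ← AddChar.map_add_eq_mul, neg_add_cancel, AddChar.map_zero_eq_one,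
        one_smul]
    rw [e', smul_mul_assoc, mul_assoc (res _ _), (H.polfam hX hψ c).X_mul_P z d t, mul_smul_comm, smul_smul,
      ← AddChar.map_add_eq_mul]
    congr 2
    ring
  · rw [if_neg hd]
    obtain ⟨k1, k2⟩ := H.bsc b hb d.1 d.2 hd
    rw [← (hX.comm _ (H.memR h1) _ (H.memR (H.polR d.2)) k2 k1 s t).eq, res_mul hb1 hd1, mul_assoc,
      (H.polfam hX hψ c).X_mul_P z d t, mul_smul_comm]

theorem shift_inv (hψ : ψ ≠ 1) {b : ℕ} (hb : b ∈ T.pol S) (c s : F) :
    res (H.Ec hX ψ c) (X (T.bs S b) s) * res (H.Ec hX ψ c) (X (T.bs S b) (-s)) = 1 :=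
  (H.rg_c hX hψ c).mul_neg (List.mem_append_left _ (H.bsR b (H.polR hb)).1) s

/-- A function invariant under the shifts at the support is constant. -/
theorem pol_const {M : Type*} (f : ({b // b ∈ T.pol S} → F) → M) {c : F} (hc : c ≠ 0)
    (y : {b // b ∈ T.pol S} → F)
    (hf : ∀ b : {b // b ∈ T.pol S}, y b ≠ 0 → ∀ (s : F) z,
      f (fun d => if d.1 = b.1 then z d - c * (S.sgn F (T.bs S b.1) b.1 * s) else z d) = f z) :
    f y = f 0 := by
  classical
  have key : ∀ s : Finset {b // b ∈ T.pol S}, f (fun d => if d ∈ s then y d else 0) = f 0 := by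
    intro s
    induction s using Finset.induction with
    | empty => simp only [Finset.notMem_empty, if_false]; rfl
    | insert b s hb ih =>
      by_cases hy : y b = 0
      · rw [← ih]
        congr 1
        funext d
        by_cases hd : d = b
        · subst hd; simp [hb, hy]
        · simp [hd]
      · rw [← ih, ← hf b hy (-(S.sgn F (T.bs S b.1) b.1 * y b / c))
          (fun d => if d ∈ s then y d else 0)]
        congr 1
        funext d
        by_cases hd : d = b
        · subst hd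
          simp only [Finset.mem_insert_self, if_true, hb, if_false, zero_sub]
          obtain ⟨N, hN⟩ : ∃ N, N = S.sgn F (T.bs S d.1) d.1 := ⟨_, rfl⟩
          have hNN : N * N = 1 := hN ▸ S.sgn_sq _ _
          rw [← hN, show -(c * (N * -(N * y d / c))) = N * N * (c * (y d / c)) by ring, hNN,
            one_mul, mul_div_cancel₀ _ hc]
        · rw [if_neg fun e => hd (Subtype.ext e)]
          simp [hd]
  have := key Finset.univ
  simpa using this

theorem m_c (hψ : ψ ≠ 1) {c : F} (hc : c ≠ 0) :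
    Fintype.card F ^ (T.lv.k + 1) * (H.polfam hX hψ c).m ψ 0 =
      Module.finrank ℂ (LinearMap.range (H.Ec hX ψ c)) := by
  classical
  rw [← (H.polfam hX hψ c).sum_m hψ, Finset.sum_congr rfl fun y _ =>
    H.pol_const hX ((H.polfam hX hψ c).m ψ) hc y fun b _ s z =>
      (H.shift hX hψ b.2 c s).m_eq hψ (H.shift_inv hX hψ b.2 c s) z,
    Finset.sum_const, Finset.card_univ, smul_eq_mul, Fintype.card_fun]
  congr 2
  rw [Fintype.card_of_subtype (T.pol S).toFinset (fun x => List.mem_toFinset),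
    List.toFinset_card_of_nodup H.pol_nodup, H.pol_length]

/-- The moves preserving the polarisation. -/
theorem pol_moves (hψ : ψ ≠ 1) {r : ℕ} (hr : r ∈ T.lv.a :: T.lv.L) (hst : T.polStable S r = true)
    (c t : F) : Moves (H.polfam hX hψ c) ψ (res (H.Ec hX ψ c) (X r t))
      (fun z d => z d - S.sgn F r d.1 * t *
        (if h : S.sm r d.1 ∈ T.pol S then z ⟨_, h⟩ else 0)) := by
  simp only [Top.polStable, List.all_eq_true, Bool.and_eq_true, Bool.or_eq_true,
    Bool.not_eq_true', beq_iff_eq, beq_eq_false_iff_ne, List.contains_iff_mem,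
    ← Bool.not_eq_true] at hst
  have hrR : r ∈ T.lv.roots := List.mem_append_right _ hr
  have hrg := H.rg_c hX hψ c
  have hn : S.n ∉ T.pol S := fun hm => by
    have h := (H.bsR _ (H.polR hm))
    have hh := H.lvl
    simp only [Lvl.chk, Bool.and_eq_true] at hh
    have := (inM_iff hh.2.1 _).2 (H.polR hm)
    simp [inM] at this
  exact moves_list (Y := fun r t => res (H.Ec hX ψ c) (X r t)) hrg
    (fun b hb => List.mem_append_left _ (H.polR hb)) hn (H.polfam hX hψ c) hrR hst ψ t

open _root_.Classical in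
/-- The trace of `a` on the space of a central character of multiplicity one. -/
theorem trace_a (hψ : ψ ≠ 1) {c t : F} (hc : c ≠ 0) (ht : t ≠ 0)
    (h1 : (H.polfam hX hψ c).m ψ 0 = 1) :
    LinearMap.trace ℂ V (X T.lv.a t * H.Ec hX ψ c) = (Fintype.card F : ℂ) ^ T.nfix S := by
  have ha : T.lv.a ∈ T.lv.a :: T.lv.L := List.mem_cons_self
  have hca := H.comm_Ec hX hψ (List.mem_append_right T.lv.R ha) t c
  rw [← trace_res (E := H.Ec hX ψ c) ((H.zfam hX).P_idem hψ _) hca, (H.polfam hX hψ c).trace_eq hψ]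
  obtain ⟨K, hK⟩ : ∃ K, K = H.polfam hX hψ c := ⟨_, rfl⟩
  have hmv := H.pol_moves hX hψ ha H.astab c t
  have h0 : LinearMap.trace ℂ _ (res (H.Ec hX ψ c) (X T.lv.a t) * (H.polfam hX hψ c).P ψ 0) = 1 := by
    obtain ⟨r, hr, s, hs, hrs, hr1, hs1⟩ := H.dec
    have hr' := List.mem_cons_of_mem T.lv.a hr
    have hcom : ∀ r ∈ T.lv.a :: T.lv.L, T.polStable S r = true → ∀ u : F,
        Commute (res (H.Ec hX ψ c) (X r u)) ((H.polfam hX hψ c).P ψ 0) := fun r hr hst u =>
      (H.pol_moves hX hψ hr hst c u).commute hψ (funext fun d => by simp)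
    have hrg := H.rg_c hX hψ c
    have hrR : r ∈ T.lv.roots := List.mem_append_right _ hr'
    have hsR : s ∈ T.lv.roots := List.mem_append_right _ hs
    have hn : S.sm r s ≠ S.n := by
      rw [hrs]
      have hh := H.lvl
      simp only [Lvl.chk, Bool.and_eq_true] at hh
      have h := (inM_iff hh.2.2.1 _).2 ha
      simp only [inM, Bool.and_eq_true, Nat.blt_eq] at h
      exact h.1.ne
    have e1 := hrg.conj r hrR s hsR hn (by rw [hrs]; exact List.mem_append_right _ ha) 1
      (S.sgn F r s * t)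
    rw [hrs, mul_one, ← mul_assoc (S.sgn F r s), S.sgn_sq, one_mul] at e1
    rw [phase ((H.polfam hX hψ c).P_idem hψ 0)
      (by rw [(H.polfam hX hψ c).trace_P hψ, h1, Nat.cast_one]) (hcom r hr' hr1 1)
      (hcom s hs hs1 _) (hcom _ ha H.astab t) (hrg.neg_mul hrR 1) (hrg.neg_mul hsR _) e1,
      (H.polfam hX hψ c).trace_P hψ, h1, Nat.cast_one]
  have hval : ∀ y : {b // b ∈ T.pol S} → F,
      LinearMap.trace ℂ _ (res (H.Ec hX ψ c) (X T.lv.a t) * (H.polfam hX hψ c).P ψ y) =
        if y ∈ Fintype.piFinset (fun b : {b // b ∈ T.pol S} =>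
          if T.img S b.1 then ({0} : Finset F) else Finset.univ) then 1 else 0 := by
    intro y
    simp only [Fintype.mem_piFinset]
    split_ifs with hy
    · rw [H.pol_const hX (fun z => LinearMap.trace ℂ _
        (res (H.Ec hX ψ c) (X T.lv.a t) * (H.polfam hX hψ c).P ψ z)) hc y, h0]
      intro b hb s z
      have hi : T.img S b.1 = false := by
        by_contra hne
        have := hy b
        rw [Bool.not_eq_false] at hne
        rw [if_pos hne, Finset.mem_singleton] at this
        exact hb this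
      refine (H.shift hX hψ b.2 c s).trace_shift hψ (H.shift_inv hX hψ b.2 c s) ?_ z
      exact (H.rg_c hX hψ c).comm _ (List.mem_append_right _ ha) _
        (List.mem_append_left _ (H.bsR _ (H.polR b.2)).1) (H.afix _ b.2 hi).2 (H.afix _ b.2 hi).1 t s
    · refine hmv.trace_moved hψ fun h => hy fun b => ?_
      split_ifs with hi
      · rw [Finset.mem_singleton]
        simp only [Top.img, List.any_eq_true, beq_iff_eq] at hi
        obtain ⟨d, hd, hdb⟩ := hi
        have h2 := congrFun h ⟨d, hd⟩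
        have hmem : S.sm T.lv.a d ∈ T.pol S := hdb ▸ b.2
        simp only [dif_pos hmem, sub_eq_self, mul_eq_zero] at h2
        rcases h2 with (h2 | h2) | h2
        · exact absurd h2 (S.sgn_ne _ _)
        · exact absurd h2 ht
        · rw [← h2]; congr 1; exact Subtype.ext hdb.symm
      · exact Finset.mem_univ _
  rw [Finset.sum_congr rfl fun y _ => hval y, Finset.sum_boole, Finset.filter_mem_eq_inter,
    Finset.univ_inter, Fintype.card_piFinset]
  have hcard : ∀ b : {b // b ∈ T.pol S},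
      (if T.img S b.1 then ({0} : Finset F) else Finset.univ).card =
        if T.img S b.1 then 1 else Fintype.card F := fun b => by
    split_ifs <;> simp
  rw [Finset.prod_congr rfl fun b _ => hcard b, Finset.prod_ite, Finset.prod_const_one, one_mul,
    Finset.prod_const, Nat.cast_pow]
  congr 1
  rw [Top.nfix, ← List.toFinset_card_of_nodup (H.pol_nodup.filter _),
    ← Finset.card_image_of_injective _ Subtype.val_injective]
  congr 1
  ext x
  simp [and_comm]

end TopOK

end Cfsg.Agent.SimpleFacts.MinDegExc
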