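import Mathlib
import Cfsg.Agent.SimpleFacts.MinDegExc.Top
import Cfsg.Agent.SimpleFacts.MinDegOrth.Steps

/-!
A non-trivial representation of a group with a Heisenberg radical is either large, or has every
non-trivial central character with multiplicity `q ^ N`, and then the fixed space is determined.
-/

set_option autoImplicit false
set_option linter.unusedSectionVars false

namespace Cfsg.Agent.SimpleFacts.MinDegExc

variable {F : Type*} [Field F] [Fintype F] {V : Type*} [AddCommGroup V] [Module ℂ V]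
variable [FiniteDimensional ℂ V] {S : Sys} {T : Top} {X : ℕ → F → Module.End ℂ V}

/-- Either large, or the fixed space of the radical with the given deficit. -/
theorem Top.main (hT : T.chk S = true) (hX : IsRG S (T.th :: T.rest) X)
    (hne : ∃ r ∈ T.th :: T.rest, ∃ t, X r t ≠ 1) :
    (2 * (Fintype.card F - 1) * (Fintype.card F + 1) * Fintype.card F ^ (T.lv.k + 1) ≤
      Fintype.card F * Module.finrank ℂ V) ∨
    ∃ (E : Module.End ℂ V) (W : Submodule ℂ (LinearMap.range E))
      (X' : ℕ → F → Module.End ℂ W), IsRG S (T.lv.a :: T.lv.L) X' ∧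
      Module.finrank ℂ V = Module.finrank ℂ W + T.lv.cnt S (Fintype.card F) +
        (Fintype.card F - 1) * Fintype.card F ^ (T.lv.k + 1) ∧
      ∀ t : F, t ≠ 0 → LinearMap.trace ℂ W (X' T.lv.a t) = (Module.finrank ℂ W : ℂ) -
        ((Fintype.card F : ℂ) ^ (T.lv.k + 1) +
          ((Fintype.card F : ℂ) - 1) * (Fintype.card F : ℂ) ^ T.nfix S -
          ((T.lv.cnt S (Fintype.card F) : ℂ) - (T.lv.fixCnt S (Fintype.card F) : ℂ))) := by
  classical
  have H := topOK hT
  obtain ⟨ψ, hψ⟩ := MinDegOrth.exists_psi_ne (F := F)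
  obtain ⟨b0, r0, hrest⟩ : ∃ b l, T.rest = b :: l := by
    have ha : T.lv.a ∈ T.rest := H.sub _ (List.mem_append_right _ List.mem_cons_self)
    cases e : T.rest with
    | nil => rw [e] at ha; exact absurd ha List.not_mem_nil
    | cons b l => exact ⟨b, l, rfl⟩
  obtain ⟨χ, hχdef⟩ : ∃ χ, χ = LinearMap.trace ℂ V (X b0 1) := ⟨_, rfl⟩
  have hχ : ∀ u ∈ T.th :: T.rest, ∀ w : F, w ≠ 0 → LinearMap.trace ℂ V (X u w) = χ := by
    intro u hu w hw
    rw [hχdef]
    have hP : ∀ r ∈ b0 :: r0, r ∈ T.th :: T.rest :=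
      fun r hr => List.mem_cons_of_mem _ (hrest ▸ hr)
    exact hX.trace_const List.mem_cons_self hP (hrest ▸ H.conn) u (hrest ▸ hu) w hw
  obtain ⟨q, hq⟩ : ∃ q, q = Fintype.card F := ⟨_, rfl⟩
  have hq2 : 2 ≤ q := hq ▸ Fintype.one_lt_card
  have hqC : (q : ℂ) ≠ 0 := Nat.cast_ne_zero.2 (by omega)
  rw [← hq]
  obtain ⟨k, hk⟩ : ∃ k, k = Module.finrank ℂ V := ⟨_, rfl⟩
  -- multiplicities of the central characters
  have hμ : ∀ c : F, c ≠ 0 →
      (q : ℂ) * (((H.zfam hX).m ψ fun _ => c : ℕ) : ℂ) = (k : ℂ) - χ := by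
    intro c hc
    have h := (H.zfam hX).slice hψ () (D := (k : ℂ) - χ) (fun t ht => by
      rw [hχ _ List.mem_cons_self t ht, ← hk, sub_sub_cancel]) hc
    rw [Finset.sum_eq_single_of_mem (fun _ => c) (by simp) (fun y hy hne => by
      exfalso
      refine hne (funext fun u => ?_)
      simp only [Finset.mem_filter, Finset.mem_univ, true_and] at hy
      cases u
      exact hy)] at h
    rw [hq]; exact h
  obtain ⟨μ, hμdef⟩ : ∃ μ, μ = (H.zfam hX).m ψ (fun _ => (1 : F)) := ⟨_, rfl⟩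
  have hm : ∀ c : F, c ≠ 0 → ((H.zfam hX).m ψ fun _ => c) = μ := fun c hc => by
    have h := mul_left_cancel₀ hqC ((hμ c hc).trans (hμ 1 one_ne_zero).symm)
    rw [hμdef]; exact_mod_cast h
  have hkχ : (k : ℂ) - χ = (q : ℂ) * (μ : ℂ) := by rw [hμdef]; exact (hμ 1 one_ne_zero).symm
  obtain ⟨ν, hν⟩ : ∃ ν, ν = (H.polfam hX hψ (1 : F)).m ψ 0 := ⟨_, rfl⟩
  have hμν : q ^ (T.lv.k + 1) * ν = μ := by
    rw [hq, hν, H.m_c hX hψ one_ne_zero, hμdef]; rfl
  have hν' : ∀ c : F, c ≠ 0 → (H.polfam hX hψ c).m ψ 0 = ν := by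
    intro c hc
    have h := H.m_c hX (ψ := ψ) hψ hc
    have h' : q ^ (T.lv.k + 1) * (H.polfam hX hψ c).m ψ 0 = μ := by
      rw [hq, h, ← hm c hc]; rfl
    rw [← hμν] at h'
    exact Nat.eq_of_mul_eq_mul_left (pow_pos (by omega) _) h'
  have hsplit : ∀ A : Module.End ℂ V, LinearMap.trace ℂ V A =
      LinearMap.trace ℂ V (A * H.Ec hX ψ 0) +
        ∑ c ∈ (Finset.univ : Finset F).erase 0, LinearMap.trace ℂ V (A * H.Ec hX ψ c) := by
    intro A
    rw [(H.zfam hX).trace_eq hψ A, Finset.add_sum_erase _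
      (fun c : F => LinearMap.trace ℂ V (A * H.Ec hX ψ c)) (Finset.mem_univ (0 : F))]
    exact Fintype.sum_equiv (Equiv.funUnique Unit F) _ _ fun y => rfl
  have hEtr : ∀ c, LinearMap.trace ℂ V (H.Ec hX ψ c) = (((H.zfam hX).m ψ fun _ => c : ℕ) : ℂ) :=
    fun c => (H.zfam hX).trace_P hψ _
  obtain ⟨f, hf⟩ : ∃ f, f = Module.finrank ℂ (LinearMap.range (H.Ec hX ψ 0)) := ⟨_, rfl⟩
  have hfk : k = f + (q - 1) * μ := by
    have h := hsplit 1
    simp only [one_mul, LinearMap.trace_one] at h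
    rw [← hk, Finset.sum_congr rfl fun c hc => by rw [hEtr, hm c (Finset.ne_of_mem_erase hc)],
      Finset.sum_const, Finset.card_erase_of_mem (Finset.mem_univ _), Finset.card_univ, ← hq,
      hEtr, nsmul_eq_mul] at h
    rw [hf]
    exact_mod_cast h
  have hμ0 : μ ≠ 0 := by
    intro h0
    obtain ⟨r, hr, t, ht⟩ := hne
    have hP0 : H.Ec hX ψ 0 = 1 := by
      conv_rhs => rw [← (H.zfam hX).sum_P hψ]
      symm
      refine Finset.sum_eq_single_of_mem (fun _ => (0 : F)) (Finset.mem_univ _) fun y _ hy => ?_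
      refine (H.zfam hX).P_eq_zero ?_
      have hy0 : y () ≠ 0 := fun h => hy (funext fun u => by cases u; exact h)
      rw [show y = fun _ => y () from funext fun u => by cases u; rfl, hm _ hy0, h0]
    refine ht (hX.all_trivial List.mem_cons_self (fun u hu => List.mem_cons_of_mem _ hu) H.conn
      (fun v => ?_) r hr t)
    have := H.th_mul_Ec hX (ψ := ψ) 0 v
    rwa [hP0, mul_one, zero_mul, AddChar.map_zero_eq_one, one_smul] at this
  -- one coordinate on the fixed space of the centre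
  obtain ⟨X0, hX0⟩ : ∃ X0 : ℕ → F → Module.End ℂ (LinearMap.range (H.Ec hX ψ 0)),
      X0 = fun r t => res (H.Ec hX ψ 0) (X r t) := ⟨_, rfl⟩
  have hdef : ∀ b ∈ T.lv.R, ∀ t : F, t ≠ 0 →
      LinearMap.trace ℂ _ (X0 b t) = (f : ℂ) - (μ : ℂ) := by
    intro b hb t ht
    rw [hX0]
    show LinearMap.trace ℂ _ (res _ (X b t)) = _
    rw [trace_res (E := H.Ec hX ψ 0) ((H.zfam hX).P_idem hψ _) (H.comm_Ec hX hψ (List.mem_append_left _ hb) t 0)]
    have h := hsplit (X b t)
    rw [hχ b (H.memR hb) t ht, Finset.sum_eq_zero fun c hc =>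
      H.trace_rad hX hψ hb (Finset.ne_of_mem_erase hc) ht, add_zero] at h
    change LinearMap.trace ℂ V (X b t * H.Ec hX ψ 0) = _
    rw [← h]
    have h1 : (k : ℂ) = (f : ℂ) + ((q : ℂ) - 1) * (μ : ℂ) := by
      rw [hfk]; push_cast [Nat.cast_sub (show 1 ≤ q by omega)]; ring
    linear_combination -hkχ + h1
  have hrg0 : IsRG S T.lv.roots X0 := hX0 ▸ H.rg_c hX hψ 0
  have hcase : ν = 1 ∨ 2 ≤ ν := by
    rcases Nat.eq_zero_or_pos ν with h | h
    · rw [h, mul_zero] at hμν; exact absurd hμν.symm hμ0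
    · omega
  rcases hcase with hν1 | hν2
  swap
  · left
    have hb := H.e0
    have hfam : Fam (ι := Unit) fun _ t => X0 T.e0 t :=
      ⟨fun _ => hrg0.zero _ (List.mem_append_left _ hb),
        fun _ => hrg0.add _ (List.mem_append_left _ hb), fun _ _ t u => by
          show X0 T.e0 t * X0 T.e0 u = X0 T.e0 u * X0 T.e0 t
          rw [← hrg0.add _ (List.mem_append_left _ hb), ← hrg0.add _ (List.mem_append_left _ hb),
            add_comm]⟩
    have hsum : (q - 1) * μ ≤ q * f := by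
      have h1 : ∀ c : F, c ≠ 0 → q * hfam.m ψ (fun _ => c) = μ := fun c hc => by
        have h := hfam.slice hψ () (D := (μ : ℂ)) (fun t ht => by rw [hdef _ hb t ht, hf]) hc
        rw [Finset.sum_eq_single_of_mem (fun _ => c) (by simp) (fun y hy hne => by
          exfalso
          refine hne (funext fun u => ?_)
          simp only [Finset.mem_filter, Finset.mem_univ, true_and] at hy
          cases u
          exact hy)] at h
        rw [hq]; exact_mod_cast h
      rw [hf, ← hfam.sum_m hψ, Finset.mul_sum]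
      refine le_trans (le_of_eq ?_) (Finset.sum_le_sum_of_subset
        (Finset.subset_univ (((Finset.univ : Finset F).erase 0).image fun c _ => c)))
      rw [Finset.sum_image fun c _ d _ h => congrFun h (),
        Finset.sum_congr rfl fun c hc => h1 c (Finset.ne_of_mem_erase hc), Finset.sum_const,
        Finset.card_erase_of_mem (Finset.mem_univ _), Finset.card_univ, ← hq, smul_eq_mul]
    rw [← hk, hfk]
    calc 2 * (q - 1) * (q + 1) * q ^ (T.lv.k + 1)
        = (q - 1) * (q ^ (T.lv.k + 1) * 2) + q * ((q - 1) * (q ^ (T.lv.k + 1) * 2)) := by ring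
      _ ≤ (q - 1) * (q ^ (T.lv.k + 1) * ν) + q * ((q - 1) * (q ^ (T.lv.k + 1) * ν)) := by gcongr
      _ ≤ q * (f + (q - 1) * μ) := by rw [hμν, mul_add]; gcongr
  · right
    subst hν1
    rw [mul_one] at hμν
    have C : Ctx S T.lv X0 := by
      refine ⟨H.lvl, hrg0, fun b hb c hc t u => ?_⟩
      rcases H.heis b hb c hc with ⟨h1, h2⟩ | ⟨h1, h2⟩
      · exact hrg0.comm b (List.mem_append_left _ hb) c (List.mem_append_left _ hc) h2 h1 t u
      · rw [hX0]
        show res _ (X b t) * res _ (X c u) = res _ (X c u) * res _ (X b t)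
        have hcb := H.comm_Ec hX hψ (List.mem_append_left _ hb) t 0
        have hcc := H.comm_Ec hX hψ (List.mem_append_left _ hc) u 0
        rw [← res_mul hcb hcc, ← res_mul hcc hcb]
        refine res_eq_of_mul_eq (hcb.mul_left hcc) (hcc.mul_left hcb) ?_
        rw [hX.conj b (H.memR hb) c (H.memR hc) (by rw [h1]; exact h2)
          (by rw [h1]; exact List.mem_cons_self) t u, h1, mul_assoc, (hcc.mul_left hcb).eq,
          ← mul_assoc, H.th_mul_Ec hX, zero_mul, AddChar.map_zero_eq_one, one_smul]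
    have hD : DefR S T.lv X0 := fun b hb t ht => by
      rw [hdef b hb t ht, ← hμν, hf, hq]; push_cast; rfl
    obtain ⟨h1, h2, h3⟩ := C.step hψ hD
    refine ⟨_, _, _, h1, ?_, fun t ht => ?_⟩
    · rw [← hk, hfk, hf, h2, ← hμν, hq]
    have ha : T.lv.a ∈ T.lv.roots := List.mem_append_right _ List.mem_cons_self
    have hqq : ((q - 1 : ℕ) : ℂ) = (q : ℂ) - 1 := by
      push_cast [Nat.cast_sub (show 1 ≤ q by omega)]; rfl
    have h4 := h3 ((q : ℂ) ^ (T.lv.k + 1) + ((q : ℂ) - 1) * (q : ℂ) ^ T.nfix S) (fun t ht => ?_) t ht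
    · rw [hq] at h4 ⊢; exact h4
    rw [hX0]
    show LinearMap.trace ℂ _ (res _ (X T.lv.a t)) = _
    rw [trace_res (E := H.Ec hX ψ 0) ((H.zfam hX).P_idem hψ _) (H.comm_Ec hX hψ ha t 0)]
    change LinearMap.trace ℂ V (X T.lv.a t * H.Ec hX ψ 0) = _
    have h := hsplit (X T.lv.a t)
    rw [hχ _ (H.memP ha) t ht, Finset.sum_congr rfl fun c hc =>
      H.trace_a hX hψ (Finset.ne_of_mem_erase hc) ht (hν' c (Finset.ne_of_mem_erase hc)),
      Finset.sum_const, Finset.card_erase_of_mem (Finset.mem_univ _), Finset.card_univ, ← hq,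
      nsmul_eq_mul, hqq] at h
    have e1 : (k : ℂ) = (f : ℂ) + ((q : ℂ) - 1) * (q : ℂ) ^ (T.lv.k + 1) := by
      rw [hfk, ← hμν]; push_cast [hqq]; ring
    have e2 : (k : ℂ) - χ = (q : ℂ) * (q : ℂ) ^ (T.lv.k + 1) := by
      rw [hkχ, ← hμν]; push_cast; rfl
    rw [← hf]
    linear_combination -h + e1 - e2

end Cfsg.Agent.SimpleFacts.MinDegExc
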