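import Mathlib
import Cfsg.Agent.SimpleFacts.MinDegExc.TopMain
import Cfsg.Agent.SimpleFacts.MinDegExc.SL6
import Cfsg.Agent.Lib.Characters.Integrality

/-!
The step common to the bounds for E6 and E8: a subsystem of type E6.
-/

set_option autoImplicit false
set_option linter.unusedSectionVars false

namespace Cfsg.Agent.SimpleFacts.MinDegExc

theorem sum_of_perm (q : ℕ) {l l' : List ℕ} (h : l.isPerm l' = true) :
    (l.map fun i => q ^ i).sum = (l'.map fun i => q ^ i).sum :=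
  ((List.isPerm_iff.1 h).map _).sum_eq

theorem fix_sum (S : Sys) (lv : Lvl) (q : ℕ) :
    lv.fixCnt S q = (q - 1) *
      (((lv.R.filter fun e => !lv.moved S lv.a e).map fun e => lv.aExp S e).map fun i => q ^ i).sum := by
  rw [Lvl.fixCnt]
  congr 1
  induction lv.R with
  | nil => rfl
  | cons a l ih =>
    cases h : lv.moved S lv.a a
    · simp [List.filter_cons, h, ih]
    · simp [List.filter_cons, h, ih]

theorem cnt_sum (S : Sys) (lv : Lvl) (q : ℕ) :
    lv.cnt S q = (q - 1) * ((lv.R.map fun e => lv.aExp S e).map fun i => q ^ i).sum := by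
  rw [Lvl.cnt, List.map_map]; rfl

variable {F : Type*} [Field F] [Fintype F] {V : Type*} [AddCommGroup V] [Module ℂ V]
variable [FiniteDimensional ℂ V]

/-- The bound for E6, less one. -/
theorem e6_system {S : Sys} {T : Top} {L : List ℕ} {M : ℕ} (hT : T.chk S = true)
    (hk : T.lv.k + 1 = 10) (hnf : T.nfix S = 7)
    (hexp : (T.lv.R.map fun e => T.lv.aExp S e).isPerm
      [0, 1, 2, 2, 3, 3, 3, 4, 4, 4, 5, 5, 5, 6, 6, 6, 7, 7, 8, 9] = true)
    (hfix : ((T.lv.R.filter fun e => !T.lv.moved S T.lv.a e).map fun e => T.lv.aExp S e).isPerm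
      [0, 1, 2, 2, 3, 3, 3, 4, 4, 4, 5, 5, 6, 6] = true)
    (hA5 : sl6Chk S L M (T.lv.a :: T.lv.L) T.lv.a = true) {X : ℕ → F → Module.End ℂ V}
    (hX : IsRG S (T.th :: T.rest) X) (hne : ∃ r ∈ T.th :: T.rest, ∃ t, X r t ≠ 1) :
    Fintype.card F ^ 11 + Fintype.card F ^ 8 + Fintype.card F ^ 7 + Fintype.card F ^ 5 +
      Fintype.card F ^ 4 + Fintype.card F ≤ Module.finrank ℂ V + 1 := by
  obtain ⟨q, hq⟩ : ∃ q, q = Fintype.card F := ⟨_, rfl⟩
  have hq2 : 2 ≤ q := hq ▸ Fintype.one_lt_card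
  have h := Top.main hT hX hne
  rw [cnt_sum, fix_sum, sum_of_perm _ hexp, sum_of_perm _ hfix, hk, hnf, ← hq] at h
  rw [← hq]
  rcases h with h | ⟨E, W, X', hX', hdim, htr⟩
  · have h' : 2 * (q - 1) * (q + 1) * q ^ 9 ≤ Module.finrank ℂ V := by
      refine Nat.le_of_mul_le_mul_left ?_ (by omega : 0 < q)
      calc q * (2 * (q - 1) * (q + 1) * q ^ 9) = 2 * (q - 1) * (q + 1) * q ^ 10 := by ring
        _ ≤ _ := h
    obtain ⟨m, rfl⟩ : ∃ m, q = m + 2 := ⟨q - 2, by omega⟩
    rw [show m + 2 - 1 = m + 1 from rfl] at h'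
    refine le_trans (le_trans ?_ h') (Nat.le_succ _)
    have h4 : ∀ a b : ℕ, a ≤ b → (m + 2) ^ a ≤ (m + 2) ^ b := fun a b hab =>
      Nat.pow_le_pow_right (by omega) hab
    have e8 : 2 * (m + 2) ^ 8 ≤ (m + 2) ^ 9 := by
      rw [pow_succ (m + 2) 8, mul_comm]; gcongr
    have e7 : 2 * (m + 2) ^ 7 ≤ (m + 2) ^ 8 := by
      rw [pow_succ (m + 2) 7, mul_comm]; gcongr
    have e5 : 2 * (m + 2) ^ 5 ≤ (m + 2) ^ 6 := by
      rw [pow_succ (m + 2) 5, mul_comm]; gcongr
    have e4 : 2 * (m + 2) ^ 4 ≤ (m + 2) ^ 5 := by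
      rw [pow_succ (m + 2) 4, mul_comm]; gcongr
    have := h4 6 7 (by norm_num)
    have := h4 1 4 (by norm_num)
    rw [pow_one] at this
    have e11 : (m + 2) ^ 11 + 2 * (m + 2) ^ 9 ≤ 2 * (m + 1) * (m + 2 + 1) * (m + 2) ^ 9 := by
      rw [show (m + 2) ^ 11 + 2 * (m + 2) ^ 9 = ((m + 2) ^ 2 + 2) * (m + 2) ^ 9 by ring]
      gcongr
      nlinarith
    omega
  · have hne' : ∃ t, X' T.lv.a t ≠ 1 := by
      by_contra hc
      push Not at hc
      have e := htr 1 one_ne_zero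
      rw [hc 1, LinearMap.trace_one] at e
      have hq1 : ((q - 1 : ℕ) : ℂ) = (q : ℂ) - 1 := by
        push_cast [Nat.cast_sub (show 1 ≤ q by omega)]; rfl
      simp only [List.map_cons, List.map_nil, List.sum_cons, List.sum_nil] at e
      push_cast [hq1] at e
      have h5 : (q : ℂ) ^ 5 = 0 := by linear_combination e
      exact (pow_ne_zero 5 (Nat.cast_ne_zero.2 (by omega : q ≠ 0))) h5
    have hf := sl6_system hA5 hX' hne'
    rw [← hq] at hf
    simp only [MinDeg.T, Finset.sum_range_succ, Finset.sum_range_zero] at hf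
    simp only [List.map_cons, List.map_nil, List.sum_cons, List.sum_nil] at hdim
    obtain ⟨m, rfl⟩ : ∃ m, q = m + 1 := ⟨q - 1, by omega⟩
    rw [Nat.add_sub_cancel] at hdim
    rw [hdim]
    ring_nf at hf ⊢
    omega

/-- An irreducible representation of degree at least two is not trivial. -/
theorem exists_ne_one {G : Type*} [Group G] {k : ℕ} (ρ : Representation ℂ G (Fin k → ℂ))
    (hρ : ρ.IsIrreducible) (hk : 2 ≤ k) : ∃ g, ρ g ≠ 1 := by
  by_contra htriv
  push Not at htriv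
  obtain ⟨-, hU⟩ := (Cfsg.Agent.Characters.isIrreducible_iff ρ).1 hρ
  let w : Fin k → ℂ := Pi.single ⟨0, by omega⟩ 1
  rcases hU (Submodule.span ℂ {w}) (fun g x hx => by rw [htriv]; exact hx) with h1 | h1
  · rw [Submodule.span_singleton_eq_bot] at h1
    exact one_ne_zero (by simpa [w] using congrFun h1 ⟨0, by omega⟩ : (1 : ℂ) = 0)
  · have h2 := finrank_span_le_card ({w} : Set (Fin k → ℂ)) (R := ℂ)
    rw [h1, finrank_top, Module.finrank_fintype_fun_eq_card, Fintype.card_fin] at h2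
    simp at h2
    omega

/-- The degree divides any multiple of the order. -/
theorem degree_dvd_of {G : Type*} [Group G] [Finite G] {k : ℕ}
    (ρ : Representation ℂ G (Fin k → ℂ)) (hρ : ρ.IsIrreducible) {c N : ℕ}
    (hN : c * Nat.card G = N) : k ∣ N := by
  have := hρ
  have h := Cfsg.Agent.Characters.finrank_dvd_card ρ
  rw [Module.finrank_fintype_fun_eq_card, Fintype.card_fin] at h
  exact hN ▸ h.mul_left c

end Cfsg.Agent.SimpleFacts.MinDegExc
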