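import Mathlib

/-!
The degrees just below the bounds for E6 and E8 do not divide the group orders.
-/

set_option autoImplicit false
set_option linter.unusedVariables false

namespace Cfsg.Agent.SimpleFacts.MinDegExc

/-- Common divisors of `k` and `a` divide `c`. -/
def Bnd (k a c : ℤ) : Prop := ∀ d : ℤ, d ∣ k → d ∣ a → d ∣ c

theorem Bnd.of_comb {k a c : ℤ} (u v : ℤ) (h : u * k + v * a = c) : Bnd k a c :=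
  fun _ h1 h2 => h ▸ dvd_add (h1.mul_left u) (h2.mul_left v)

theorem Bnd.refl (k a : ℤ) : Bnd k a a := fun _ _ h => h

theorem Bnd.mul {k a b c e : ℤ} (h1 : Bnd k a c) (h2 : Bnd k b e) : Bnd k (a * b) (c * e) := by
  intro d hk hd
  obtain ⟨x, y, hx, hy, rfl⟩ := exists_dvd_and_dvd_of_dvd_mul hd
  exact mul_dvd_mul (h1 x ((dvd_mul_right x y).trans hk) hx) (h2 y ((dvd_mul_left y x).trans hk) hy)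

theorem Bnd.congr {k a a' c c' : ℤ} (h : Bnd k a c) (ha : a' = a) (hc : c' = c) : Bnd k a' c' := by
  subst ha hc; exact h

/-- The part prime to the characteristic. -/
theorem Bnd.prime_pow {p a : ℕ} (hp : p.Prime) {j : ℕ} (hj : j.Prime ∨ j = 1) (hlt : j < p ^ a)
    {k τ : ℤ} (hk : k = (p : ℤ) ^ a * τ - j) (N : ℕ) : Bnd k (((p : ℤ) ^ a) ^ N) j := by
  intro d hd1 hd2
  have hprime : Prime (p : ℤ) := Nat.prime_iff_prime_int.1 hp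
  by_cases hpj : p = j
  · subst hpj
    obtain ⟨b, rfl⟩ : ∃ b, a = b + 2 := by
      refine ⟨a - 2, ?_⟩
      by_contra h
      have : p ^ a ≤ p ^ 1 := Nat.pow_le_pow_right hp.pos (by omega)
      rw [pow_one] at this
      omega
    have hk' : k = (p : ℤ) * ((p : ℤ) ^ (b + 1) * τ - 1) := by rw [hk]; ring
    rw [hk'] at hd1
    have hco : IsCoprime ((p : ℤ) ^ (b + 1) * τ - 1) (p : ℤ) := ⟨-1, (p : ℤ) ^ b * τ, by ring⟩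
    rw [← pow_mul] at hd2
    obtain ⟨x, y, hx, hy, rfl⟩ := exists_dvd_and_dvd_of_dvd_mul hd1
    have hy1 : IsUnit y :=
      (hco.pow_right (n := (b + 2) * N)).isUnit_of_dvd' hy ((dvd_mul_left y x).trans hd2)
    exact (hy1.mul_right_dvd).2 hx
  · have hco : IsCoprime (p : ℤ) (j : ℤ) := by
      rcases hj with hj | rfl
      · exact Int.isCoprime_iff_nat_coprime.2 (by simpa using (Nat.coprime_primes hp hj).2 hpj)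
      · exact isCoprime_one_right
    have hkp : IsCoprime k ((p : ℤ) ^ a) := by
      obtain ⟨u, v, huv⟩ := (hco.symm.pow_right (n := a))
      exact ⟨-u, v + u * τ, by rw [hk]; linear_combination huv⟩
    exact ((hkp.pow_right (n := N)).isUnit_of_dvd' hd1 hd2).dvd

/-- The borderline degree at distance 1, for large `q`. -/
theorem six_1 {p a : ℕ} (hp0 : p.Prime) (hbig : 19 ≤ p ^ a) {q k : ℤ} (hq0 : q = (p : ℤ) ^ a)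
    (hk : k = (q ^ 11 + q ^ 8 + q ^ 7 + q ^ 5 + q ^ 4 + q) - 1) (hdvd : k ∣ q ^ 36 * ((q ^ 2 - 1) * (q ^ 5 - 1) * (q ^ 6 - 1) * (q ^ 8 - 1) * (q ^ 9 - 1) * (q ^ 12 - 1))) : False := by
  have hq : (19 : ℤ) ≤ q := by rw [hq0]; exact_mod_cast hbig
  have hp : Bnd k (q ^ 36) 1 := by
    have := Bnd.prime_pow hp0 (j := 1) (Or.inr rfl) (show 1 < p ^ a by omega)
      (k := k) (τ := (((p : ℤ) ^ a) ^ 10 + ((p : ℤ) ^ a) ^ 7 + ((p : ℤ) ^ a) ^ 6 + ((p : ℤ) ^ a) ^ 4 + ((p : ℤ) ^ a) ^ 3 + 1)) (by rw [hk, hq0]; push_cast; ring) 36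
    rw [← hq0] at this
    exact_mod_cast this
  have h1 : Bnd k (q ^ 1 - 1) 5 :=
    Bnd.of_comb (1) (-(q ^ 10) - q ^ 9 - q ^ 8 - 2 * q ^ 7 - 3 * q ^ 6 - 3 * q ^ 5 - 4 * q ^ 4 - 5 * q ^ 3 - 5 * q ^ 2 - 5 * q ^ 1 - 6) (by rw [hk]; ring)
  have h2 : Bnd k (q ^ 1 + 1) 3 :=
    Bnd.of_comb (-(1)) (q ^ 10 - q ^ 9 + q ^ 8 + q ^ 6 - q ^ 5 + 2 * q ^ 4 - q ^ 3 + q ^ 2 - q ^ 1 + 2) (by rw [hk]; ring)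
  have h3 : Bnd k (q ^ 2 + q ^ 1 + 1) 4 :=
    Bnd.of_comb (-(1)) (q ^ 9 - q ^ 8 + 2 * q ^ 6 - q ^ 5 - q ^ 4 + 3 * q ^ 3 - q ^ 2 - 2 * q ^ 1 + 3) (by rw [hk]; ring)
  have h4 : Bnd k (q ^ 2 + 1) 1 :=
    Bnd.of_comb (1) (-(q ^ 9) + q ^ 7 - q ^ 6 - 2 * q ^ 5 + q ^ 4 + q ^ 3 - 2 * q ^ 2 - q ^ 1 + 2) (by rw [hk]; ring)
  have h5 : Bnd k (q ^ 4 + q ^ 3 + q ^ 2 + q ^ 1 + 1) 5 :=
    Bnd.of_comb (-(q ^ 3) - 2 * q ^ 2 - 3 * q ^ 1 - 4) (q ^ 10 + q ^ 9 + q ^ 8 + 2 * q ^ 7 - 2 * q ^ 6 + 3 * q ^ 5 + 4 * q ^ 4 + 1) (by rw [hk]; ring)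
  have h6 : Bnd k (q ^ 2 - q ^ 1 + 1) (q ^ 2 - q ^ 1 + 1) := Bnd.refl _ _
  have h8 : Bnd k (q ^ 4 + 1) 1 :=
    Bnd.of_comb (-(1)) (q ^ 7 + q ^ 4 + q ^ 1) (by rw [hk]; ring)
  have h9 : Bnd k (q ^ 6 + q ^ 3 + 1) 1 :=
    Bnd.of_comb (-(1)) (q ^ 5 + q ^ 1) (by rw [hk]; ring)
  have h12 : Bnd k (q ^ 4 - q ^ 2 + 1) 2 :=
    Bnd.of_comb (-(1)) (q ^ 7 + q ^ 5 + q ^ 4 + q ^ 3 + q ^ 2 + q ^ 1 + 1) (by rw [hk]; ring)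
  have g2 := ((h1).mul h2).congr (a' := q ^ 2 - 1) (by ring) rfl
  have g5 := ((h1).mul h5).congr (a' := q ^ 5 - 1) (by ring) rfl
  have g6 := ((((h1).mul h2).mul h3).mul h6).congr (a' := q ^ 6 - 1) (by ring) rfl
  have g8 := ((((h1).mul h2).mul h4).mul h8).congr (a' := q ^ 8 - 1) (by ring) rfl
  have g9 := (((h1).mul h3).mul h9).congr (a' := q ^ 9 - 1) (by ring) rfl
  have g12 := ((((((h1).mul h2).mul h3).mul h4).mul h6).mul h12).congr (a' := q ^ 12 - 1) (by ring) rfl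
  have hall := ((((((((hp).mul g2).mul g5).mul g6).mul g8).mul g9).mul g12).congr (a' := q ^ 36 * ((q ^ 2 - 1) * (q ^ 5 - 1) * (q ^ 6 - 1) * (q ^ 8 - 1) * (q ^ 9 - 1) * (q ^ 12 - 1))) (by ring) rfl) k dvd_rfl hdvd
  have hpow : ∀ a b : ℕ, a ≤ b → q ^ a ≤ q ^ b := fun a b h => pow_le_pow_right₀ (by linarith) h
  have b6 : 0 < (q ^ 2 - q ^ 1 + 1) ∧ (q ^ 2 - q ^ 1 + 1) ≤ q ^ 2 := by
    constructor <;> nlinarith [hpow 0 1 (by norm_num), hpow 1 2 (by norm_num)]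
  have hC : k ∣ (810000000 : ℤ) * (q ^ 2 - q ^ 1 + 1) * (q ^ 2 - q ^ 1 + 1) := hall.trans (dvd_of_eq (by push_cast; ring))
  have hle := Int.le_of_dvd (by have := b6.1; positivity) hC
  have hle2 : (810000000 : ℤ) * (q ^ 2 - q ^ 1 + 1) * (q ^ 2 - q ^ 1 + 1) ≤ (810000000 : ℤ) * q ^ 2 * q ^ 2 :=
    mul_le_mul (mul_le_mul_of_nonneg_left b6.2 (by norm_num)) b6.2 b6.1.le (by positivity)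
  have hqn : (810000000 : ℤ) < q ^ 7 :=
    lt_of_lt_of_le (by norm_num) (pow_le_pow_left₀ (by norm_num) hq 7)
  have hlt : (810000000 : ℤ) * q ^ 2 * q ^ 2 < q ^ 11 := by
    have := mul_lt_mul_of_pos_right hqn (show (0 : ℤ) < q ^ 4 by positivity)
    linarith [show q ^ 7 * q ^ 4 = q ^ 11 by ring, show (810000000 : ℤ) * q ^ 2 * q ^ 2 = 810000000 * q ^ 4 by ring]
  linarith [hle, hle2, hlt, hpow 0 1 (by norm_num), hpow 0 4 (by norm_num), hpow 0 5 (by norm_num), hpow 0 7 (by norm_num), hpow 0 8 (by norm_num)]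

/-- The same for small `q`, by computation. -/
theorem six_1_small : ∀ q < 19, 2 ≤ q →
    ¬ ((q ^ 11 + q ^ 8 + q ^ 7 + q ^ 5 + q ^ 4 + q) - 1) ∣ q ^ 36 * ((q ^ 2 - 1) * (q ^ 5 - 1) * (q ^ 6 - 1) * (q ^ 8 - 1) * (q ^ 9 - 1) * (q ^ 12 - 1)) := by decide +kernel

/-- The borderline degree at distance 1, for large `q`. -/
theorem eight_1 {p a : ℕ} (hp0 : p.Prime) (hbig : 13 ≤ p ^ a) {q k : ℤ} (hq0 : q = (p : ℤ) ^ a)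
    (hk : k = (q ^ 29 + q ^ 23 + q ^ 19 + q ^ 17 + q ^ 13 + q ^ 11 + q ^ 7 + q) - 1) (hdvd : k ∣ q ^ 120 * ((q ^ 2 - 1) * (q ^ 8 - 1) * (q ^ 12 - 1) * (q ^ 14 - 1) * (q ^ 18 - 1) * (q ^ 20 - 1) * (q ^ 24 - 1) * (q ^ 30 - 1))) : False := by
  have hq : (13 : ℤ) ≤ q := by rw [hq0]; exact_mod_cast hbig
  have hp : Bnd k (q ^ 120) 1 := by
    have := Bnd.prime_pow hp0 (j := 1) (Or.inr rfl) (show 1 < p ^ a by omega)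
      (k := k) (τ := (((p : ℤ) ^ a) ^ 28 + ((p : ℤ) ^ a) ^ 22 + ((p : ℤ) ^ a) ^ 18 + ((p : ℤ) ^ a) ^ 16 + ((p : ℤ) ^ a) ^ 12 + ((p : ℤ) ^ a) ^ 10 + ((p : ℤ) ^ a) ^ 6 + 1)) (by rw [hk, hq0]; push_cast; ring) 120
    rw [← hq0] at this
    exact_mod_cast this
  have h1 : Bnd k (q ^ 1 - 1) 7 :=
    Bnd.of_comb (1) (-(q ^ 28) - q ^ 27 - q ^ 26 - q ^ 25 - q ^ 24 - q ^ 23 - 2 * q ^ 22 - 2 * q ^ 21 - 2 * q ^ 20 - 2 * q ^ 19 - 3 * q ^ 18 - 3 * q ^ 17 - 4 * q ^ 16 - 4 * q ^ 15 - 4 * q ^ 14 - 4 * q ^ 13 - 5 * q ^ 12 - 5 * q ^ 11 - 6 * q ^ 10 - 6 * q ^ 9 - 6 * q ^ 8 - 6 * q ^ 7 - 7 * q ^ 6 - 7 * q ^ 5 - 7 * q ^ 4 - 7 * q ^ 3 - 7 * q ^ 2 - 7 * q ^ 1 - 8) (by rw [hk]; ring)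
  have h2 : Bnd k (q ^ 1 + 1) 9 :=
    Bnd.of_comb (-(1)) (q ^ 28 - q ^ 27 + q ^ 26 - q ^ 25 + q ^ 24 - q ^ 23 + 2 * q ^ 22 - 2 * q ^ 21 + 2 * q ^ 20 - 2 * q ^ 19 + 3 * q ^ 18 - 3 * q ^ 17 + 4 * q ^ 16 - 4 * q ^ 15 + 4 * q ^ 14 - 4 * q ^ 13 + 5 * q ^ 12 - 5 * q ^ 11 + 6 * q ^ 10 - 6 * q ^ 9 + 6 * q ^ 8 - 6 * q ^ 7 + 7 * q ^ 6 - 7 * q ^ 5 + 7 * q ^ 4 - 7 * q ^ 3 + 7 * q ^ 2 - 7 * q ^ 1 + 8) (by rw [hk]; ring)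
  have h3 : Bnd k (q ^ 2 + q ^ 1 + 1) 5 :=
    Bnd.of_comb (-(1)) (q ^ 27 - q ^ 26 + q ^ 24 - q ^ 23 + 2 * q ^ 21 - 2 * q ^ 20 + 2 * q ^ 18 - q ^ 17 - q ^ 16 + 3 * q ^ 15 - 2 * q ^ 14 - q ^ 13 + 3 * q ^ 12 - q ^ 11 - 2 * q ^ 10 + 4 * q ^ 9 - 2 * q ^ 8 - 2 * q ^ 7 + 4 * q ^ 6 - q ^ 5 - 3 * q ^ 4 + 4 * q ^ 3 - q ^ 2 - 3 * q ^ 1 + 4) (by rw [hk]; ring)
  have h4 : Bnd k (q ^ 2 + 1) 1 :=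
    Bnd.of_comb (-(1)) (q ^ 27 - q ^ 25 + q ^ 23 + q ^ 17 + q ^ 11 + q ^ 5 - q ^ 3 + q ^ 1) (by rw [hk]; ring)
  have h5 : Bnd k (q ^ 4 + q ^ 3 + q ^ 2 + q ^ 1 + 1) 3 :=
    Bnd.of_comb (-(1)) (q ^ 25 - q ^ 24 + q ^ 20 - q ^ 18 + 2 * q ^ 15 - q ^ 14 - q ^ 12 + 2 * q ^ 10 - q ^ 8 - q ^ 6 + 2 * q ^ 5 - q ^ 2 - q ^ 1 + 2) (by rw [hk]; ring)
  have h6 : Bnd k (q ^ 2 - q ^ 1 + 1) 3 :=
    Bnd.of_comb (1) (-(q ^ 27) - q ^ 26 + q ^ 24 + q ^ 23 - 2 * q ^ 21 - 2 * q ^ 20 + 2 * q ^ 18 + q ^ 17 - q ^ 16 - 3 * q ^ 15 - 2 * q ^ 14 + q ^ 13 + 3 * q ^ 12 + q ^ 11 - 2 * q ^ 10 - 4 * q ^ 9 - 2 * q ^ 8 + 2 * q ^ 7 + 4 * q ^ 6 + q ^ 5 - 3 * q ^ 4 - 4 * q ^ 3 - q ^ 2 + 3 * q ^ 1 + 4) (by rw [hk]; ring)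
  have h7 : Bnd k (q ^ 6 + q ^ 5 + q ^ 4 + q ^ 3 + q ^ 2 + q ^ 1 + 1) 7 :=
    Bnd.of_comb (-(q ^ 5) - 2 * q ^ 4 - 3 * q ^ 3 - 4 * q ^ 2 - 5 * q ^ 1 - 6) (q ^ 28 + q ^ 27 + q ^ 26 + q ^ 25 + q ^ 24 + q ^ 23 - 5 * q ^ 22 + 2 * q ^ 21 + 2 * q ^ 20 + 2 * q ^ 19 + 3 * q ^ 18 + 3 * q ^ 17 - 3 * q ^ 16 - 3 * q ^ 15 + 4 * q ^ 14 + 4 * q ^ 13 - 2 * q ^ 12 + 5 * q ^ 11 - q ^ 10 - q ^ 9 - q ^ 8 + 6 * q ^ 7 + 1) (by rw [hk]; ring)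
  have h8 : Bnd k (q ^ 4 + 1) 1 :=
    Bnd.of_comb (-(1)) (q ^ 25 - q ^ 21 + q ^ 19 + q ^ 17 + q ^ 9 + q ^ 7 - q ^ 5 + q ^ 1) (by rw [hk]; ring)
  have h9 : Bnd k (q ^ 6 + q ^ 3 + 1) 19 :=
    Bnd.of_comb (-(6 * q ^ 5) - 5 * q ^ 4 - q ^ 3 - 10 * q ^ 2 - 2 * q ^ 1 - 8) (6 * q ^ 28 + 5 * q ^ 27 + q ^ 26 + 4 * q ^ 25 - 3 * q ^ 24 + 7 * q ^ 23 - 4 * q ^ 22 + 3 * q ^ 21 - 7 * q ^ 20 + 10 * q ^ 19 + 8 * q ^ 18 + 13 * q ^ 17 + q ^ 16 + 4 * q ^ 15 - 3 * q ^ 14 + 7 * q ^ 13 - 4 * q ^ 12 + 3 * q ^ 11 - q ^ 10 + 15 * q ^ 9 + 3 * q ^ 8 + 12 * q ^ 7 - 3 * q ^ 6 + 7 * q ^ 5 - 10 * q ^ 4 - 2 * q ^ 3 - 8 * q ^ 2 + 6 * q ^ 1 + 11) (by rw [hk]; ring)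
  have h10 : Bnd k (q ^ 4 - q ^ 3 + q ^ 2 - q ^ 1 + 1) 1 :=
    Bnd.of_comb (1) (-(q ^ 25) - q ^ 24 + q ^ 20 - q ^ 18 - 2 * q ^ 15 - q ^ 14 - q ^ 12 + 2 * q ^ 10 - q ^ 8 - q ^ 6 - 2 * q ^ 5 - q ^ 2 + q ^ 1 + 2) (by rw [hk]; ring)
  have h12 : Bnd k (q ^ 4 - q ^ 2 + 1) 1 :=
    Bnd.of_comb (-(1)) (q ^ 25 + q ^ 23 + q ^ 15 + 2 * q ^ 13 + q ^ 11 + q ^ 3 + q ^ 1) (by rw [hk]; ring)
  have h14 : Bnd k (q ^ 6 - q ^ 5 + q ^ 4 - q ^ 3 + q ^ 2 - q ^ 1 + 1) 1 :=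
    Bnd.of_comb (-(q ^ 5) - q ^ 3 - q ^ 1) (q ^ 28 + q ^ 27 + q ^ 26 + q ^ 25 + q ^ 24 + q ^ 23 + q ^ 22 + q ^ 18 + q ^ 17 + q ^ 16 + q ^ 15 + 2 * q ^ 14 + 2 * q ^ 13 + 2 * q ^ 12 + q ^ 11 + q ^ 10 + q ^ 9 + q ^ 8 + 1) (by rw [hk]; ring)
  have h15 : Bnd k (q ^ 8 - q ^ 7 + q ^ 5 - q ^ 4 + q ^ 3 - q ^ 1 + 1) (q ^ 8 - q ^ 7 + q ^ 5 - q ^ 4 + q ^ 3 - q ^ 1 + 1) := Bnd.refl _ _
  have h18 : Bnd k (q ^ 6 - q ^ 3 + 1) 3 :=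
    Bnd.of_comb (q ^ 4 + q ^ 3 - 2 * q ^ 1 - 2) (-(q ^ 27) - q ^ 26 + q ^ 24 + q ^ 23 + q ^ 21 + q ^ 20 + 2 * q ^ 18 + q ^ 17 - q ^ 16 + q ^ 14 + q ^ 13 + q ^ 11 + q ^ 10 - q ^ 9 + q ^ 8 + 2 * q ^ 7 + q ^ 6 + q ^ 5 + 2 * q ^ 3 + 2 * q ^ 2 + 1) (by rw [hk]; ring)
  have h20 : Bnd k (q ^ 8 - q ^ 6 + q ^ 4 - q ^ 2 + 1) 1 :=
    Bnd.of_comb (-(1)) (q ^ 21 + q ^ 19 + q ^ 15 + q ^ 13 + q ^ 9 + q ^ 7 + q ^ 3 + q ^ 1) (by rw [hk]; ring)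
  have h24 : Bnd k (q ^ 8 - q ^ 4 + 1) 1 :=
    Bnd.of_comb (-(1)) (q ^ 21 + q ^ 17 + q ^ 15 + 2 * q ^ 11 + q ^ 7 + q ^ 5 + q ^ 1) (by rw [hk]; ring)
  have h30 : Bnd k (q ^ 8 + q ^ 7 - q ^ 5 - q ^ 4 - q ^ 3 + q ^ 1 + 1) 2 :=
    Bnd.of_comb (-(1)) (q ^ 21 - q ^ 20 + q ^ 19 + q ^ 16 + q ^ 13 + q ^ 11 + q ^ 9 + q ^ 7 + q ^ 5 + q ^ 3 + 1) (by rw [hk]; ring)
  have g2 := ((h1).mul h2).congr (a' := q ^ 2 - 1) (by ring) rfl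
  have g8 := ((((h1).mul h2).mul h4).mul h8).congr (a' := q ^ 8 - 1) (by ring) rfl
  have g12 := ((((((h1).mul h2).mul h3).mul h4).mul h6).mul h12).congr (a' := q ^ 12 - 1) (by ring) rfl
  have g14 := ((((h1).mul h2).mul h7).mul h14).congr (a' := q ^ 14 - 1) (by ring) rfl
  have g18 := ((((((h1).mul h2).mul h3).mul h6).mul h9).mul h18).congr (a' := q ^ 18 - 1) (by ring) rfl
  have g20 := ((((((h1).mul h2).mul h4).mul h5).mul h10).mul h20).congr (a' := q ^ 20 - 1) (by ring) rfl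
  have g24 := ((((((((h1).mul h2).mul h3).mul h4).mul h6).mul h8).mul h12).mul h24).congr (a' := q ^ 24 - 1) (by ring) rfl
  have g30 := ((((((((h1).mul h2).mul h3).mul h5).mul h6).mul h10).mul h15).mul h30).congr (a' := q ^ 30 - 1) (by ring) rfl
  have hall := ((((((((((hp).mul g2).mul g8).mul g12).mul g14).mul g18).mul g20).mul g24).mul g30).congr (a' := q ^ 120 * ((q ^ 2 - 1) * (q ^ 8 - 1) * (q ^ 12 - 1) * (q ^ 14 - 1) * (q ^ 18 - 1) * (q ^ 20 - 1) * (q ^ 24 - 1) * (q ^ 30 - 1))) (by ring) rfl) k dvd_rfl hdvd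
  have hpow : ∀ a b : ℕ, a ≤ b → q ^ a ≤ q ^ b := fun a b h => pow_le_pow_right₀ (by linarith) h
  have b15 : 0 < (q ^ 8 - q ^ 7 + q ^ 5 - q ^ 4 + q ^ 3 - q ^ 1 + 1) ∧ (q ^ 8 - q ^ 7 + q ^ 5 - q ^ 4 + q ^ 3 - q ^ 1 + 1) ≤ q ^ 8 := by
    constructor <;> nlinarith [hpow 0 1 (by norm_num), hpow 1 2 (by norm_num), hpow 2 3 (by norm_num), hpow 3 4 (by norm_num), hpow 4 5 (by norm_num), hpow 5 6 (by norm_num), hpow 6 7 (by norm_num), hpow 7 8 (by norm_num)]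
  have hC : k ∣ (90226649952742625988750 : ℤ) * (q ^ 8 - q ^ 7 + q ^ 5 - q ^ 4 + q ^ 3 - q ^ 1 + 1) := hall.trans (dvd_of_eq (by push_cast; ring))
  have hle := Int.le_of_dvd (by have := b15.1; positivity) hC
  have hle2 : (90226649952742625988750 : ℤ) * (q ^ 8 - q ^ 7 + q ^ 5 - q ^ 4 + q ^ 3 - q ^ 1 + 1) ≤ (90226649952742625988750 : ℤ) * q ^ 8 := mul_le_mul_of_nonneg_left b15.2 (by norm_num)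
  have hqn : (90226649952742625988750 : ℤ) < q ^ 21 :=
    lt_of_lt_of_le (by norm_num) (pow_le_pow_left₀ (by norm_num) hq 21)
  have hlt : (90226649952742625988750 : ℤ) * q ^ 8 < q ^ 29 := by
    have := mul_lt_mul_of_pos_right hqn (show (0 : ℤ) < q ^ 8 by positivity)
    linarith [show q ^ 21 * q ^ 8 = q ^ 29 by ring, show (90226649952742625988750 : ℤ) * q ^ 8 = 90226649952742625988750 * q ^ 8 by ring]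
  linarith [hle, hle2, hlt, hpow 0 1 (by norm_num), hpow 0 7 (by norm_num), hpow 0 11 (by norm_num), hpow 0 13 (by norm_num), hpow 0 17 (by norm_num), hpow 0 19 (by norm_num), hpow 0 23 (by norm_num)]

/-- The same for small `q`, by computation. -/
theorem eight_1_small : ∀ q < 13, 2 ≤ q →
    ¬ ((q ^ 29 + q ^ 23 + q ^ 19 + q ^ 17 + q ^ 13 + q ^ 11 + q ^ 7 + q) - 1) ∣ q ^ 120 * ((q ^ 2 - 1) * (q ^ 8 - 1) * (q ^ 12 - 1) * (q ^ 14 - 1) * (q ^ 18 - 1) * (q ^ 20 - 1) * (q ^ 24 - 1) * (q ^ 30 - 1)) := by decide +kernel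

/-- The borderline degree at distance 2, for large `q`. -/
theorem eight_2 {p a : ℕ} (hp0 : p.Prime) (hbig : 31 ≤ p ^ a) {q k : ℤ} (hq0 : q = (p : ℤ) ^ a)
    (hk : k = (q ^ 29 + q ^ 23 + q ^ 19 + q ^ 17 + q ^ 13 + q ^ 11 + q ^ 7 + q) - 2) (hdvd : k ∣ q ^ 120 * ((q ^ 2 - 1) * (q ^ 8 - 1) * (q ^ 12 - 1) * (q ^ 14 - 1) * (q ^ 18 - 1) * (q ^ 20 - 1) * (q ^ 24 - 1) * (q ^ 30 - 1))) : False := by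
  have hq : (31 : ℤ) ≤ q := by rw [hq0]; exact_mod_cast hbig
  have hp : Bnd k (q ^ 120) 2 := by
    have := Bnd.prime_pow hp0 (j := 2) (Or.inl (by norm_num)) (show 2 < p ^ a by omega)
      (k := k) (τ := (((p : ℤ) ^ a) ^ 28 + ((p : ℤ) ^ a) ^ 22 + ((p : ℤ) ^ a) ^ 18 + ((p : ℤ) ^ a) ^ 16 + ((p : ℤ) ^ a) ^ 12 + ((p : ℤ) ^ a) ^ 10 + ((p : ℤ) ^ a) ^ 6 + 1)) (by rw [hk, hq0]; push_cast; ring) 120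
    rw [← hq0] at this
    exact_mod_cast this
  have h1 : Bnd k (q ^ 1 - 1) 6 :=
    Bnd.of_comb (1) (-(q ^ 28) - q ^ 27 - q ^ 26 - q ^ 25 - q ^ 24 - q ^ 23 - 2 * q ^ 22 - 2 * q ^ 21 - 2 * q ^ 20 - 2 * q ^ 19 - 3 * q ^ 18 - 3 * q ^ 17 - 4 * q ^ 16 - 4 * q ^ 15 - 4 * q ^ 14 - 4 * q ^ 13 - 5 * q ^ 12 - 5 * q ^ 11 - 6 * q ^ 10 - 6 * q ^ 9 - 6 * q ^ 8 - 6 * q ^ 7 - 7 * q ^ 6 - 7 * q ^ 5 - 7 * q ^ 4 - 7 * q ^ 3 - 7 * q ^ 2 - 7 * q ^ 1 - 8) (by rw [hk]; ring)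
  have h2 : Bnd k (q ^ 1 + 1) 10 :=
    Bnd.of_comb (-(1)) (q ^ 28 - q ^ 27 + q ^ 26 - q ^ 25 + q ^ 24 - q ^ 23 + 2 * q ^ 22 - 2 * q ^ 21 + 2 * q ^ 20 - 2 * q ^ 19 + 3 * q ^ 18 - 3 * q ^ 17 + 4 * q ^ 16 - 4 * q ^ 15 + 4 * q ^ 14 - 4 * q ^ 13 + 5 * q ^ 12 - 5 * q ^ 11 + 6 * q ^ 10 - 6 * q ^ 9 + 6 * q ^ 8 - 6 * q ^ 7 + 7 * q ^ 6 - 7 * q ^ 5 + 7 * q ^ 4 - 7 * q ^ 3 + 7 * q ^ 2 - 7 * q ^ 1 + 8) (by rw [hk]; ring)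
  have h3 : Bnd k (q ^ 2 + q ^ 1 + 1) 6 :=
    Bnd.of_comb (-(1)) (q ^ 27 - q ^ 26 + q ^ 24 - q ^ 23 + 2 * q ^ 21 - 2 * q ^ 20 + 2 * q ^ 18 - q ^ 17 - q ^ 16 + 3 * q ^ 15 - 2 * q ^ 14 - q ^ 13 + 3 * q ^ 12 - q ^ 11 - 2 * q ^ 10 + 4 * q ^ 9 - 2 * q ^ 8 - 2 * q ^ 7 + 4 * q ^ 6 - q ^ 5 - 3 * q ^ 4 + 4 * q ^ 3 - q ^ 2 - 3 * q ^ 1 + 4) (by rw [hk]; ring)
  have h4 : Bnd k (q ^ 2 + 1) 2 :=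
    Bnd.of_comb (-(1)) (q ^ 27 - q ^ 25 + q ^ 23 + q ^ 17 + q ^ 11 + q ^ 5 - q ^ 3 + q ^ 1) (by rw [hk]; ring)
  have h5 : Bnd k (q ^ 4 + q ^ 3 + q ^ 2 + q ^ 1 + 1) 4 :=
    Bnd.of_comb (-(1)) (q ^ 25 - q ^ 24 + q ^ 20 - q ^ 18 + 2 * q ^ 15 - q ^ 14 - q ^ 12 + 2 * q ^ 10 - q ^ 8 - q ^ 6 + 2 * q ^ 5 - q ^ 2 - q ^ 1 + 2) (by rw [hk]; ring)
  have h6 : Bnd k (q ^ 2 - q ^ 1 + 1) 2 :=
    Bnd.of_comb (1) (-(q ^ 27) - q ^ 26 + q ^ 24 + q ^ 23 - 2 * q ^ 21 - 2 * q ^ 20 + 2 * q ^ 18 + q ^ 17 - q ^ 16 - 3 * q ^ 15 - 2 * q ^ 14 + q ^ 13 + 3 * q ^ 12 + q ^ 11 - 2 * q ^ 10 - 4 * q ^ 9 - 2 * q ^ 8 + 2 * q ^ 7 + 4 * q ^ 6 + q ^ 5 - 3 * q ^ 4 - 4 * q ^ 3 - q ^ 2 + 3 * q ^ 1 + 4) (by rw [hk]; ring)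
  have h7 : Bnd k (q ^ 6 + q ^ 5 + q ^ 4 + q ^ 3 + q ^ 2 + q ^ 1 + 1) 127 :=
    Bnd.of_comb (-(q ^ 5) - 3 * q ^ 4 - 7 * q ^ 3 - 15 * q ^ 2 - 31 * q ^ 1 - 63) (q ^ 28 + 2 * q ^ 27 + 4 * q ^ 26 + 8 * q ^ 25 + 16 * q ^ 24 + 32 * q ^ 23 - 62 * q ^ 22 + 3 * q ^ 21 + 6 * q ^ 20 + 12 * q ^ 19 + 25 * q ^ 18 + 50 * q ^ 17 - 26 * q ^ 16 - 52 * q ^ 15 + 23 * q ^ 14 + 46 * q ^ 13 - 34 * q ^ 12 + 59 * q ^ 11 - 8 * q ^ 10 - 16 * q ^ 9 - 32 * q ^ 8 + 63 * q ^ 7 + 1) (by rw [hk]; ring)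
  have h8 : Bnd k (q ^ 4 + 1) 2 :=
    Bnd.of_comb (-(1)) (q ^ 25 - q ^ 21 + q ^ 19 + q ^ 17 + q ^ 9 + q ^ 7 - q ^ 5 + q ^ 1) (by rw [hk]; ring)
  have h9 : Bnd k (q ^ 6 + q ^ 3 + 1) 57 :=
    Bnd.of_comb (-(6 * q ^ 5) - 7 * q ^ 4 - 5 * q ^ 3 - 15 * q ^ 2 - 8 * q ^ 1 - 22) (6 * q ^ 28 + 7 * q ^ 27 + 5 * q ^ 26 + 9 * q ^ 25 + q ^ 24 + 17 * q ^ 23 - 9 * q ^ 22 - q ^ 21 - 17 * q ^ 20 + 15 * q ^ 19 + 14 * q ^ 18 + 29 * q ^ 17 + 5 * q ^ 16 + 9 * q ^ 15 + q ^ 14 + 17 * q ^ 13 - 9 * q ^ 12 - q ^ 11 - 11 * q ^ 10 + 22 * q ^ 9 + 13 * q ^ 8 + 31 * q ^ 7 + q ^ 6 + 17 * q ^ 5 - 15 * q ^ 4 - 8 * q ^ 3 - 22 * q ^ 2 + 6 * q ^ 1 + 13) (by rw [hk]; ring)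
  have h10 : Bnd k (q ^ 4 - q ^ 3 + q ^ 2 - q ^ 1 + 1) (q ^ 4 - q ^ 3 + q ^ 2 - q ^ 1 + 1) := Bnd.refl _ _
  have h12 : Bnd k (q ^ 4 - q ^ 2 + 1) 2 :=
    Bnd.of_comb (-(1)) (q ^ 25 + q ^ 23 + q ^ 15 + 2 * q ^ 13 + q ^ 11 + q ^ 3 + q ^ 1) (by rw [hk]; ring)
  have h14 : Bnd k (q ^ 6 - q ^ 5 + q ^ 4 - q ^ 3 + q ^ 2 - q ^ 1 + 1) 43 :=
    Bnd.of_comb (-(q ^ 5) - q ^ 4 - 3 * q ^ 3 - 5 * q ^ 2 - 11 * q ^ 1 - 21) (q ^ 28 + 2 * q ^ 27 + 4 * q ^ 26 + 8 * q ^ 25 + 16 * q ^ 24 + 32 * q ^ 23 + 22 * q ^ 22 + q ^ 21 + 2 * q ^ 20 + 4 * q ^ 19 + 9 * q ^ 18 + 18 * q ^ 17 - 6 * q ^ 16 - 12 * q ^ 15 + 19 * q ^ 14 + 38 * q ^ 13 + 34 * q ^ 12 + 25 * q ^ 11 + 8 * q ^ 10 + 16 * q ^ 9 + 32 * q ^ 8 + 21 * q ^ 7 + 1) (by rw [hk]; ring)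
  have h15 : Bnd k (q ^ 8 - q ^ 7 + q ^ 5 - q ^ 4 + q ^ 3 - q ^ 1 + 1) 1 :=
    Bnd.of_comb (-(1)) (q ^ 21 + q ^ 20 + q ^ 19 - q ^ 16 + q ^ 13 + q ^ 11 + q ^ 9 + q ^ 7 + q ^ 5 + q ^ 3 - 1) (by rw [hk]; ring)
  have h18 : Bnd k (q ^ 6 - q ^ 3 + 1) 127 :=
    Bnd.of_comb (-(6 * q ^ 5) + 5 * q ^ 4 + 17 * q ^ 3 + 13 * q ^ 2 - 32 * q ^ 1 - 58) (6 * q ^ 28 - 5 * q ^ 27 - 17 * q ^ 26 - 7 * q ^ 25 + 27 * q ^ 24 + 41 * q ^ 23 - 7 * q ^ 22 + 27 * q ^ 21 + 41 * q ^ 20 - 13 * q ^ 19 + 38 * q ^ 18 + 53 * q ^ 17 - 17 * q ^ 16 - 7 * q ^ 15 + 27 * q ^ 14 + 41 * q ^ 13 - 7 * q ^ 12 + 27 * q ^ 11 + 47 * q ^ 10 - 18 * q ^ 9 + 15 * q ^ 8 + 51 * q ^ 7 + 27 * q ^ 6 + 41 * q ^ 5 - 13 * q ^ 4 + 32 * q ^ 3 + 58 * q ^ 2 - 6 * q ^ 1 + 11) (by rw [hk]; ring)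
  have h20 : Bnd k (q ^ 8 - q ^ 6 + q ^ 4 - q ^ 2 + 1) 2 :=
    Bnd.of_comb (-(1)) (q ^ 21 + q ^ 19 + q ^ 15 + q ^ 13 + q ^ 9 + q ^ 7 + q ^ 3 + q ^ 1) (by rw [hk]; ring)
  have h24 : Bnd k (q ^ 8 - q ^ 4 + 1) 2 :=
    Bnd.of_comb (-(1)) (q ^ 21 + q ^ 17 + q ^ 15 + 2 * q ^ 11 + q ^ 7 + q ^ 5 + q ^ 1) (by rw [hk]; ring)
  have h30 : Bnd k (q ^ 8 + q ^ 7 - q ^ 5 - q ^ 4 - q ^ 3 + q ^ 1 + 1) 3 :=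
    Bnd.of_comb (-(1)) (q ^ 21 - q ^ 20 + q ^ 19 + q ^ 16 + q ^ 13 + q ^ 11 + q ^ 9 + q ^ 7 + q ^ 5 + q ^ 3 + 1) (by rw [hk]; ring)
  have g2 := ((h1).mul h2).congr (a' := q ^ 2 - 1) (by ring) rfl
  have g8 := ((((h1).mul h2).mul h4).mul h8).congr (a' := q ^ 8 - 1) (by ring) rfl
  have g12 := ((((((h1).mul h2).mul h3).mul h4).mul h6).mul h12).congr (a' := q ^ 12 - 1) (by ring) rfl
  have g14 := ((((h1).mul h2).mul h7).mul h14).congr (a' := q ^ 14 - 1) (by ring) rfl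
  have g18 := ((((((h1).mul h2).mul h3).mul h6).mul h9).mul h18).congr (a' := q ^ 18 - 1) (by ring) rfl
  have g20 := ((((((h1).mul h2).mul h4).mul h5).mul h10).mul h20).congr (a' := q ^ 20 - 1) (by ring) rfl
  have g24 := ((((((((h1).mul h2).mul h3).mul h4).mul h6).mul h8).mul h12).mul h24).congr (a' := q ^ 24 - 1) (by ring) rfl
  have g30 := ((((((((h1).mul h2).mul h3).mul h5).mul h6).mul h10).mul h15).mul h30).congr (a' := q ^ 30 - 1) (by ring) rfl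
  have hall := ((((((((((hp).mul g2).mul g8).mul g12).mul g14).mul g18).mul g20).mul g24).mul g30).congr (a' := q ^ 120 * ((q ^ 2 - 1) * (q ^ 8 - 1) * (q ^ 12 - 1) * (q ^ 14 - 1) * (q ^ 18 - 1) * (q ^ 20 - 1) * (q ^ 24 - 1) * (q ^ 30 - 1))) (by ring) rfl) k dvd_rfl hdvd
  have hpow : ∀ a b : ℕ, a ≤ b → q ^ a ≤ q ^ b := fun a b h => pow_le_pow_right₀ (by linarith) h
  have b10 : 0 < (q ^ 4 - q ^ 3 + q ^ 2 - q ^ 1 + 1) ∧ (q ^ 4 - q ^ 3 + q ^ 2 - q ^ 1 + 1) ≤ q ^ 4 := by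
    constructor <;> nlinarith [hpow 0 1 (by norm_num), hpow 1 2 (by norm_num), hpow 2 3 (by norm_num), hpow 3 4 (by norm_num)]
  have hC : k ∣ (13534958549853558905241600000000 : ℤ) * (q ^ 4 - q ^ 3 + q ^ 2 - q ^ 1 + 1) * (q ^ 4 - q ^ 3 + q ^ 2 - q ^ 1 + 1) := hall.trans (dvd_of_eq (by push_cast; ring))
  have hle := Int.le_of_dvd (by have := b10.1; positivity) hC
  have hle2 : (13534958549853558905241600000000 : ℤ) * (q ^ 4 - q ^ 3 + q ^ 2 - q ^ 1 + 1) * (q ^ 4 - q ^ 3 + q ^ 2 - q ^ 1 + 1) ≤ (13534958549853558905241600000000 : ℤ) * q ^ 4 * q ^ 4 :=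
    mul_le_mul (mul_le_mul_of_nonneg_left b10.2 (by norm_num)) b10.2 b10.1.le (by positivity)
  have hqn : (13534958549853558905241600000000 : ℤ) < q ^ 21 :=
    lt_of_lt_of_le (by norm_num) (pow_le_pow_left₀ (by norm_num) hq 21)
  have hlt : (13534958549853558905241600000000 : ℤ) * q ^ 4 * q ^ 4 < q ^ 29 := by
    have := mul_lt_mul_of_pos_right hqn (show (0 : ℤ) < q ^ 8 by positivity)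
    linarith [show q ^ 21 * q ^ 8 = q ^ 29 by ring, show (13534958549853558905241600000000 : ℤ) * q ^ 4 * q ^ 4 = 13534958549853558905241600000000 * q ^ 8 by ring]
  linarith [hle, hle2, hlt, hpow 0 1 (by norm_num), hpow 0 7 (by norm_num), hpow 0 11 (by norm_num), hpow 0 13 (by norm_num), hpow 0 17 (by norm_num), hpow 0 19 (by norm_num), hpow 0 23 (by norm_num)]

/-- The same for small `q`, by computation. -/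
theorem eight_2_small : ∀ q < 31, 2 ≤ q →
    ¬ ((q ^ 29 + q ^ 23 + q ^ 19 + q ^ 17 + q ^ 13 + q ^ 11 + q ^ 7 + q) - 2) ∣ q ^ 120 * ((q ^ 2 - 1) * (q ^ 8 - 1) * (q ^ 12 - 1) * (q ^ 14 - 1) * (q ^ 18 - 1) * (q ^ 20 - 1) * (q ^ 24 - 1) * (q ^ 30 - 1)) := by decide +kernel

/-- The borderline degree at distance 3, for large `q`. -/
theorem eight_3 {p a : ℕ} (hp0 : p.Prime) (hbig : 19 ≤ p ^ a) {q k : ℤ} (hq0 : q = (p : ℤ) ^ a)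
    (hk : k = (q ^ 29 + q ^ 23 + q ^ 19 + q ^ 17 + q ^ 13 + q ^ 11 + q ^ 7 + q) - 3) (hdvd : k ∣ q ^ 120 * ((q ^ 2 - 1) * (q ^ 8 - 1) * (q ^ 12 - 1) * (q ^ 14 - 1) * (q ^ 18 - 1) * (q ^ 20 - 1) * (q ^ 24 - 1) * (q ^ 30 - 1))) : False := by
  have hq : (19 : ℤ) ≤ q := by rw [hq0]; exact_mod_cast hbig
  have hp : Bnd k (q ^ 120) 3 := by
    have := Bnd.prime_pow hp0 (j := 3) (Or.inl (by norm_num)) (show 3 < p ^ a by omega)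
      (k := k) (τ := (((p : ℤ) ^ a) ^ 28 + ((p : ℤ) ^ a) ^ 22 + ((p : ℤ) ^ a) ^ 18 + ((p : ℤ) ^ a) ^ 16 + ((p : ℤ) ^ a) ^ 12 + ((p : ℤ) ^ a) ^ 10 + ((p : ℤ) ^ a) ^ 6 + 1)) (by rw [hk, hq0]; push_cast; ring) 120
    rw [← hq0] at this
    exact_mod_cast this
  have h1 : Bnd k (q ^ 1 - 1) 5 :=
    Bnd.of_comb (1) (-(q ^ 28) - q ^ 27 - q ^ 26 - q ^ 25 - q ^ 24 - q ^ 23 - 2 * q ^ 22 - 2 * q ^ 21 - 2 * q ^ 20 - 2 * q ^ 19 - 3 * q ^ 18 - 3 * q ^ 17 - 4 * q ^ 16 - 4 * q ^ 15 - 4 * q ^ 14 - 4 * q ^ 13 - 5 * q ^ 12 - 5 * q ^ 11 - 6 * q ^ 10 - 6 * q ^ 9 - 6 * q ^ 8 - 6 * q ^ 7 - 7 * q ^ 6 - 7 * q ^ 5 - 7 * q ^ 4 - 7 * q ^ 3 - 7 * q ^ 2 - 7 * q ^ 1 - 8) (by rw [hk]; ring)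
  have h2 : Bnd k (q ^ 1 + 1) 11 :=
    Bnd.of_comb (-(1)) (q ^ 28 - q ^ 27 + q ^ 26 - q ^ 25 + q ^ 24 - q ^ 23 + 2 * q ^ 22 - 2 * q ^ 21 + 2 * q ^ 20 - 2 * q ^ 19 + 3 * q ^ 18 - 3 * q ^ 17 + 4 * q ^ 16 - 4 * q ^ 15 + 4 * q ^ 14 - 4 * q ^ 13 + 5 * q ^ 12 - 5 * q ^ 11 + 6 * q ^ 10 - 6 * q ^ 9 + 6 * q ^ 8 - 6 * q ^ 7 + 7 * q ^ 6 - 7 * q ^ 5 + 7 * q ^ 4 - 7 * q ^ 3 + 7 * q ^ 2 - 7 * q ^ 1 + 8) (by rw [hk]; ring)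
  have h3 : Bnd k (q ^ 2 + q ^ 1 + 1) 7 :=
    Bnd.of_comb (-(1)) (q ^ 27 - q ^ 26 + q ^ 24 - q ^ 23 + 2 * q ^ 21 - 2 * q ^ 20 + 2 * q ^ 18 - q ^ 17 - q ^ 16 + 3 * q ^ 15 - 2 * q ^ 14 - q ^ 13 + 3 * q ^ 12 - q ^ 11 - 2 * q ^ 10 + 4 * q ^ 9 - 2 * q ^ 8 - 2 * q ^ 7 + 4 * q ^ 6 - q ^ 5 - 3 * q ^ 4 + 4 * q ^ 3 - q ^ 2 - 3 * q ^ 1 + 4) (by rw [hk]; ring)
  have h4 : Bnd k (q ^ 2 + 1) 3 :=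
    Bnd.of_comb (-(1)) (q ^ 27 - q ^ 25 + q ^ 23 + q ^ 17 + q ^ 11 + q ^ 5 - q ^ 3 + q ^ 1) (by rw [hk]; ring)
  have h5 : Bnd k (q ^ 4 + q ^ 3 + q ^ 2 + q ^ 1 + 1) 5 :=
    Bnd.of_comb (-(1)) (q ^ 25 - q ^ 24 + q ^ 20 - q ^ 18 + 2 * q ^ 15 - q ^ 14 - q ^ 12 + 2 * q ^ 10 - q ^ 8 - q ^ 6 + 2 * q ^ 5 - q ^ 2 - q ^ 1 + 2) (by rw [hk]; ring)
  have h6 : Bnd k (q ^ 2 - q ^ 1 + 1) 1 :=
    Bnd.of_comb (1) (-(q ^ 27) - q ^ 26 + q ^ 24 + q ^ 23 - 2 * q ^ 21 - 2 * q ^ 20 + 2 * q ^ 18 + q ^ 17 - q ^ 16 - 3 * q ^ 15 - 2 * q ^ 14 + q ^ 13 + 3 * q ^ 12 + q ^ 11 - 2 * q ^ 10 - 4 * q ^ 9 - 2 * q ^ 8 + 2 * q ^ 7 + 4 * q ^ 6 + q ^ 5 - 3 * q ^ 4 - 4 * q ^ 3 - q ^ 2 + 3 * q ^ 1 + 4) (by rw [hk]; ring)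
  have h7 : Bnd k (q ^ 6 + q ^ 5 + q ^ 4 + q ^ 3 + q ^ 2 + q ^ 1 + 1) 1093 :=
    Bnd.of_comb (-(q ^ 5) - 4 * q ^ 4 - 13 * q ^ 3 - 40 * q ^ 2 - 121 * q ^ 1 - 364) (q ^ 28 + 3 * q ^ 27 + 9 * q ^ 26 + 27 * q ^ 25 + 81 * q ^ 24 + 243 * q ^ 23 - 363 * q ^ 22 + 4 * q ^ 21 + 12 * q ^ 20 + 36 * q ^ 19 + 109 * q ^ 18 + 327 * q ^ 17 - 111 * q ^ 16 - 333 * q ^ 15 + 94 * q ^ 14 + 282 * q ^ 13 - 246 * q ^ 12 + 355 * q ^ 11 - 27 * q ^ 10 - 81 * q ^ 9 - 243 * q ^ 8 + 364 * q ^ 7 + 1) (by rw [hk]; ring)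
  have h8 : Bnd k (q ^ 4 + 1) 3 :=
    Bnd.of_comb (-(1)) (q ^ 25 - q ^ 21 + q ^ 19 + q ^ 17 + q ^ 9 + q ^ 7 - q ^ 5 + q ^ 1) (by rw [hk]; ring)
  have h9 : Bnd k (q ^ 6 + q ^ 3 + 1) 1117 :=
    Bnd.of_comb (-(36 * q ^ 5) - 55 * q ^ 4 - 53 * q ^ 3 - 148 * q ^ 2 - 102 * q ^ 1 - 342) (36 * q ^ 28 + 55 * q ^ 27 + 53 * q ^ 26 + 112 * q ^ 25 + 47 * q ^ 24 + 289 * q ^ 23 - 112 * q ^ 22 - 47 * q ^ 21 - 289 * q ^ 20 + 148 * q ^ 19 + 138 * q ^ 18 + 397 * q ^ 17 + 53 * q ^ 16 + 112 * q ^ 15 + 47 * q ^ 14 + 289 * q ^ 13 - 112 * q ^ 12 - 47 * q ^ 11 - 253 * q ^ 10 + 203 * q ^ 9 + 155 * q ^ 8 + 454 * q ^ 7 + 47 * q ^ 6 + 289 * q ^ 5 - 148 * q ^ 4 - 102 * q ^ 3 - 342 * q ^ 2 + 36 * q ^ 1 + 91) (by rw [hk]; ring)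
  have h10 : Bnd k (q ^ 4 - q ^ 3 + q ^ 2 - q ^ 1 + 1) 1 :=
    Bnd.of_comb (-(1)) (q ^ 25 + q ^ 24 - q ^ 20 + q ^ 18 + 2 * q ^ 15 + q ^ 14 + q ^ 12 - 2 * q ^ 10 + q ^ 8 + q ^ 6 + 2 * q ^ 5 + q ^ 2 - q ^ 1 - 2) (by rw [hk]; ring)
  have h12 : Bnd k (q ^ 4 - q ^ 2 + 1) 3 :=
    Bnd.of_comb (-(1)) (q ^ 25 + q ^ 23 + q ^ 15 + 2 * q ^ 13 + q ^ 11 + q ^ 3 + q ^ 1) (by rw [hk]; ring)
  have h14 : Bnd k (q ^ 6 - q ^ 5 + q ^ 4 - q ^ 3 + q ^ 2 - q ^ 1 + 1) 547 :=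
    Bnd.of_comb (-(q ^ 5) - 2 * q ^ 4 - 7 * q ^ 3 - 20 * q ^ 2 - 61 * q ^ 1 - 182) (q ^ 28 + 3 * q ^ 27 + 9 * q ^ 26 + 27 * q ^ 25 + 81 * q ^ 24 + 243 * q ^ 23 + 183 * q ^ 22 + 2 * q ^ 21 + 6 * q ^ 20 + 18 * q ^ 19 + 55 * q ^ 18 + 165 * q ^ 17 - 51 * q ^ 16 - 153 * q ^ 15 + 88 * q ^ 14 + 264 * q ^ 13 + 246 * q ^ 12 + 191 * q ^ 11 + 27 * q ^ 10 + 81 * q ^ 9 + 243 * q ^ 8 + 182 * q ^ 7 + 1) (by rw [hk]; ring)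
  have h15 : Bnd k (q ^ 8 - q ^ 7 + q ^ 5 - q ^ 4 + q ^ 3 - q ^ 1 + 1) 2 :=
    Bnd.of_comb (-(1)) (q ^ 21 + q ^ 20 + q ^ 19 - q ^ 16 + q ^ 13 + q ^ 11 + q ^ 9 + q ^ 7 + q ^ 5 + q ^ 3 - 1) (by rw [hk]; ring)
  have h18 : Bnd k (q ^ 6 - q ^ 3 + 1) 991 :=
    Bnd.of_comb (-(18 * q ^ 5) + q ^ 4 + 55 * q ^ 3 + 70 * q ^ 2 - 114 * q ^ 1 - 324) (18 * q ^ 28 - q ^ 27 - 55 * q ^ 26 - 52 * q ^ 25 + 113 * q ^ 24 + 269 * q ^ 23 - 52 * q ^ 22 + 113 * q ^ 21 + 269 * q ^ 20 - 70 * q ^ 19 + 132 * q ^ 18 + 323 * q ^ 17 - 55 * q ^ 16 - 52 * q ^ 15 + 113 * q ^ 14 + 269 * q ^ 13 - 52 * q ^ 12 + 113 * q ^ 11 + 287 * q ^ 10 - 71 * q ^ 9 + 59 * q ^ 8 + 272 * q ^ 7 + 113 * q ^ 6 + 269 * q ^ 5 - 70 * q ^ 4 + 114 * q ^ 3 + 324 * q ^ 2 - 18 * q ^ 1 + 19) (by rw [hk]; ring)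
  have h20 : Bnd k (q ^ 8 - q ^ 6 + q ^ 4 - q ^ 2 + 1) 3 :=
    Bnd.of_comb (-(1)) (q ^ 21 + q ^ 19 + q ^ 15 + q ^ 13 + q ^ 9 + q ^ 7 + q ^ 3 + q ^ 1) (by rw [hk]; ring)
  have h24 : Bnd k (q ^ 8 - q ^ 4 + 1) 3 :=
    Bnd.of_comb (-(1)) (q ^ 21 + q ^ 17 + q ^ 15 + 2 * q ^ 11 + q ^ 7 + q ^ 5 + q ^ 1) (by rw [hk]; ring)
  have h30 : Bnd k (q ^ 8 + q ^ 7 - q ^ 5 - q ^ 4 - q ^ 3 + q ^ 1 + 1) 4 :=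
    Bnd.of_comb (-(1)) (q ^ 21 - q ^ 20 + q ^ 19 + q ^ 16 + q ^ 13 + q ^ 11 + q ^ 9 + q ^ 7 + q ^ 5 + q ^ 3 + 1) (by rw [hk]; ring)
  have g2 := ((h1).mul h2).congr (a' := q ^ 2 - 1) (by ring) rfl
  have g8 := ((((h1).mul h2).mul h4).mul h8).congr (a' := q ^ 8 - 1) (by ring) rfl
  have g12 := ((((((h1).mul h2).mul h3).mul h4).mul h6).mul h12).congr (a' := q ^ 12 - 1) (by ring) rfl
  have g14 := ((((h1).mul h2).mul h7).mul h14).congr (a' := q ^ 14 - 1) (by ring) rfl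
  have g18 := ((((((h1).mul h2).mul h3).mul h6).mul h9).mul h18).congr (a' := q ^ 18 - 1) (by ring) rfl
  have g20 := ((((((h1).mul h2).mul h4).mul h5).mul h10).mul h20).congr (a' := q ^ 20 - 1) (by ring) rfl
  have g24 := ((((((((h1).mul h2).mul h3).mul h4).mul h6).mul h8).mul h12).mul h24).congr (a' := q ^ 24 - 1) (by ring) rfl
  have g30 := ((((((((h1).mul h2).mul h3).mul h5).mul h6).mul h10).mul h15).mul h30).congr (a' := q ^ 30 - 1) (by ring) rfl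
  have hall := ((((((((((hp).mul g2).mul g8).mul g12).mul g14).mul g18).mul g20).mul g24).mul g30).congr (a' := q ^ 120 * ((q ^ 2 - 1) * (q ^ 8 - 1) * (q ^ 12 - 1) * (q ^ 14 - 1) * (q ^ 18 - 1) * (q ^ 20 - 1) * (q ^ 24 - 1) * (q ^ 30 - 1))) (by ring) rfl) k dvd_rfl hdvd
  have hpow : ∀ a b : ℕ, a ≤ b → q ^ a ≤ q ^ b := fun a b h => pow_le_pow_right₀ (by linarith) h
  have hC : k ∣ (4714024002223600272116090074921875000 : ℤ) := hall.trans (dvd_of_eq (by norm_num))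
  have hle := Int.le_of_dvd (by norm_num) hC
  have hqn : (4714024002223600272116090074921875000 : ℤ) < q ^ 29 :=
    lt_of_lt_of_le (by norm_num) (pow_le_pow_left₀ (by norm_num) hq 29)
  linarith [hle, hqn, hpow 0 1 (by norm_num), hpow 0 7 (by norm_num), hpow 0 11 (by norm_num), hpow 0 13 (by norm_num), hpow 0 17 (by norm_num), hpow 0 19 (by norm_num), hpow 0 23 (by norm_num)]

/-- The same for small `q`, by computation. -/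
theorem eight_3_small : ∀ q < 19, 2 ≤ q →
    ¬ ((q ^ 29 + q ^ 23 + q ^ 19 + q ^ 17 + q ^ 13 + q ^ 11 + q ^ 7 + q) - 3) ∣ q ^ 120 * ((q ^ 2 - 1) * (q ^ 8 - 1) * (q ^ 12 - 1) * (q ^ 14 - 1) * (q ^ 18 - 1) * (q ^ 20 - 1) * (q ^ 24 - 1) * (q ^ 30 - 1)) := by decide +kernel

end Cfsg.Agent.SimpleFacts.MinDegExc
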