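import Mathlib
import Cfsg.Agent.SimpleFacts.MinDegExc.Sys
import Cfsg.Agent.Lib.Chevalley.Unip
import Cfsg.Agent.Lib.Chevalley.Borel

/-!
Packed tables of simply laced systems, and their link with the root elements of a certified datum.
-/

set_option autoImplicit false

namespace Cfsg.Agent.SimpleFacts.MinDegExc

open Cfsg.Lie Cfsg.Agent.Chevalley.Table Cfsg.Agent.Chevalley.Cert Cfsg.Agent.Chevalley.Group
  Cfsg.Agent.Chevalley.Unip Cfsg.Agent.Chevalley.Borel

/-- Binary trees of numbers. -/
inductive NT where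
  | leaf : ℕ → NT
  | node : ℕ → NT → NT → NT

/-- Lookup. -/
noncomputable def NT.get (t : NT) : ℕ → ℕ :=
  NT.rec (fun a _ => a) (fun n _ _ gl gr i => bif Nat.blt i n then gl i else gr (Nat.sub i n)) t

/-- Packed tables: negatives in slots of 8 bits, one number per root for sums (8 bits) and signs. -/
structure Tb where
  n : ℕ
  ng : ℕ
  sm : NT
  sg : NT

/-- The system of the tables. -/
noncomputable def Tb.sys (b : Tb) : Sys where
  n := b.n
  ng r := slot 8 b.ng r
  sm r s := bif Nat.blt r b.n && Nat.blt s b.n then slot 8 (b.sm.get r) s else b.n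
  sg r s := Nat.beq (slot 1 (b.sg.get r) s) 1

/-- The chain expected from the tables. -/
noncomputable def expChain (b : Tb) (r s : ℕ) : List (ℕ × ℤ) :=
  bif Nat.beq (b.sys.sm r s) b.n then []
  else [(b.sys.sm r s, bif b.sys.sg r s then Int.negSucc 0 else Int.ofNat 1)]

/-- The sum commutes with both summands. -/
noncomputable def sumChk (b : Tb) (T : Tab) (r s : ℕ) : Bool :=
  Nat.beq (b.sys.sm r s) b.n ||
    (Nat.beq (b.sys.sm r (b.sys.sm r s)) b.n && (Nat.beq (b.sys.sm s (b.sys.sm r s)) b.n &&
      (!Nat.beq (b.sys.sm r s) (T.neg r) && !Nat.beq (b.sys.sm r s) (T.neg s))))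

/-- One pair of roots agrees with the chain table. -/
noncomputable def pairChk (b : Tb) (T : Tab) (r s : ℕ) : Bool :=
  bif Nat.beq s r || Nat.beq s (T.neg r) then Nat.beq (b.sys.sm r s) b.n
  else eqChain (T.E r s) (expChain b r s) && sumChk b T r s

/-- The tables agree with the tables of the datum. -/
noncomputable def linkTb (b : Tb) (T : Tab) : Bool :=
  Nat.beq b.n T.n && allLT b.n fun r => Nat.beq (b.sys.ng r) (T.neg r) && allLT b.n fun s =>
    pairChk b T r s

variable {D : ChevalleyDatum} {T : Tab} (hC : Certified D T) {F : Type*} [Field F]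

/-- The root elements in the group, `1` outside the range. -/
noncomputable def gx (r : ℕ) (t : F) : D.group F :=
  if h : r < D.nroots then ⟨xg hC r t, xg_mem_group hC h t⟩ else 1

theorem gx_val {r : ℕ} (hr : r < D.nroots) (t : F) : (gx hC r t : GL D.Idx F) = xg hC r t := by
  rw [gx, dif_pos hr]

include hC

/-- The root elements satisfy the relations of the tables. -/
theorem isRG_gx {b : Tb} (hb : linkTb b T = true) :
    IsRG b.sys (List.range D.nroots) (gx (F := F) hC) := by
  simp only [linkTb, Bool.and_eq_true, Nat.beq_eq] at hb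
  obtain ⟨hn, hb⟩ := hb
  have hn' : b.n = D.nroots := hn.trans hC.n_eq
  have hrow : ∀ r < D.nroots, b.sys.ng r = D.neg r ∧ ∀ s < D.nroots, pairChk b T r s = true := by
    intro r hr
    have h := of_allLT hb r (hn'.symm ▸ hr)
    simp only [Bool.and_eq_true, Nat.beq_eq] at h
    exact ⟨h.1.trans (hC.neg_eq hr), fun s hs => of_allLT h.2 s (hn'.symm ▸ hs)⟩
  have hpair : ∀ r < D.nroots, ∀ s < D.nroots, s ≠ r → s ≠ D.neg r →
      D.chainEntry r s = expChain b r s ∧ sumChk b T r s = true := by
    intro r hr s hs hsr hsn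
    have h := (hrow r hr).2 s hs
    rw [pairChk, show (Nat.beq s r || Nat.beq s (T.neg r)) = false by
      rw [Bool.or_eq_false_iff, Bool.eq_false_iff, Bool.eq_false_iff]
      exact ⟨fun e => hsr (Nat.eq_of_beq_eq_true e),
        fun e => hsn ((Nat.eq_of_beq_eq_true e).trans (hC.neg_eq hr))⟩, cond_false,
      Bool.and_eq_true] at h
    exact ⟨by rw [← hC.linked.E_eq r hr s hs, eq_of_eqChain h.1], h.2⟩
  have hsame : ∀ r < D.nroots, ∀ s < D.nroots, b.sys.sm r s ≠ b.n → s ≠ r ∧ s ≠ D.neg r := by
    intro r hr s hs hu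
    by_contra hcon
    have h := (hrow r hr).2 s hs
    rw [pairChk, show (Nat.beq s r || Nat.beq s (T.neg r)) = true by
      rw [Bool.or_eq_true]
      rcases not_and_or.1 hcon with h' | h'
      · exact Or.inl (by rw [not_not.1 h', Nat.beq_refl])
      · exact Or.inr (by rw [not_not.1 h', hC.neg_eq hr, Nat.beq_refl]), cond_true] at h
    exact hu (Nat.eq_of_beq_eq_true h)
  have hshort : ∀ r < D.nroots, ∀ s < D.nroots, s ≠ r → s ≠ D.neg r →
      D.chainEntry s r = expChain b s r := fun r hr s hs hsr hsn =>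
    (hpair s hs r hr hsr.symm fun h => hsn (by rw [h, hC.neg_neg hs])).1
  have hcomm : ∀ r < D.nroots, ∀ s < D.nroots, s ≠ D.neg r → b.sys.sm r s = b.n →
      ∀ t v : F, Commute (xg hC r t) (xg hC s v) := by
    intro r hr s hs hsn hu t v
    rcases eq_or_ne s r with rfl | hsr
    · show _ * _ = _ * _
      rw [← xg_add hC, ← xg_add hC, add_comm]
    have h1 := (hpair r hr s hs hsr hsn).1
    have h2 := hshort r hr s hs hsr hsn
    rw [expChain, hu, Nat.beq_refl, cond_true] at h1
    have e : D.commWord F r s t v = [] := by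
      unfold expChain at h2
      cases hb2 : Nat.beq (b.sys.sm s r) b.n <;> rw [hb2] at h2 <;>
        simp [ChevalleyDatum.commWord, ChevalleyDatum.commTerms, ChevalleyDatum.chainRoot, h1, h2]
    have h := xg_comm hC hr hs hsr hsn t v
    rw [e, List.map_nil, List.prod_nil, mul_one] at h
    exact h.symm
  constructor
  · intro r hr
    refine Subtype.ext ?_
    rw [gx_val hC (List.mem_range.1 hr), xg_zero hC]
    rfl
  · intro r hr t u
    have hr' := List.mem_range.1 hr
    refine Subtype.ext ?_
    rw [Subgroup.coe_mul, gx_val hC hr', gx_val hC hr', gx_val hC hr', xg_add hC]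
  · intro r hr s hs hne hu t v
    have hr' := List.mem_range.1 hr
    have hs' := List.mem_range.1 hs
    refine Subtype.ext ?_
    rw [Subgroup.coe_mul, Subgroup.coe_mul, gx_val hC hr', gx_val hC hs']
    exact (hcomm r hr' s hs' (fun h => hne (h.trans (hrow r hr').1.symm)) hu t v).eq
  · intro r hr s hs hu hk t v
    have hr' := List.mem_range.1 hr
    have hs' := List.mem_range.1 hs
    have hk' := List.mem_range.1 hk
    refine Subtype.ext ?_
    rw [Subgroup.coe_mul, Subgroup.coe_mul, Subgroup.coe_mul, gx_val hC hr', gx_val hC hs',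
      gx_val hC hk']
    have hu' : b.sys.sm r s ≠ b.n := hu
    obtain ⟨hsr, hsn⟩ := hsame r hr' s hs' hu'
    obtain ⟨h1, hsum⟩ := hpair r hr' s hs' hsr hsn
    have h2 := hshort r hr' s hs' hsr hsn
    have hbf : Nat.beq (b.sys.sm r s) b.n = false :=
      Bool.eq_false_iff.2 fun e => hu' (Nat.eq_of_beq_eq_true e)
    rw [expChain, hbf, cond_false] at h1
    simp only [sumChk, hbf, Bool.false_or, Bool.and_eq_true, Bool.not_eq_true', Nat.beq_eq] at hsum
    obtain ⟨k1, k2, k3, k4⟩ := hsum
    have n3 : b.sys.sm r s ≠ D.neg r := by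
      intro he
      rw [Bool.eq_false_iff] at k3
      exact k3 (by rw [he, hC.neg_eq hr', Nat.beq_refl])
    have n4 : b.sys.sm r s ≠ D.neg s := by
      intro he
      rw [Bool.eq_false_iff] at k4
      exact k4 (by rw [he, hC.neg_eq hs', Nat.beq_refl])
    have hc : ∀ w : F, Commute (xg hC (b.sys.sm r s) w) (xg hC s v * xg hC r t) := fun w =>
      (hcomm s hs' _ hk' n4 k2 v w).symm.mul_right (hcomm r hr' _ hk' n3 k1 t w).symm
    have e : D.commWord F r s t v = [(b.sys.sm r s, -(b.sys.sgn F r s * t * v))] := by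
      unfold expChain at h2
      cases hb2 : Nat.beq (b.sys.sm s r) b.n <;> rw [hb2] at h2 <;> cases hsg : b.sys.sg r s <;>
        simp [ChevalleyDatum.commWord, ChevalleyDatum.commTerms, ChevalleyDatum.chainRoot,
          ChevalleyDatum.chainM, Sys.sgn, hsg, h1, h2]
    have h := xg_comm hC hr' hs' hsr hsn t v
    rw [e, List.map_cons, List.map_nil, List.prod_cons, List.prod_nil, mul_one] at h
    rw [(hc _).eq, h, mul_assoc, ← xg_add hC, neg_add_cancel, xg_zero hC, mul_one]

/-- A representation trivial on the root elements is trivial. -/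
theorem hom_trivial {N : Type*} [Monoid N] (f : D.group F →* N)
    (hf : ∀ r < D.nroots, ∀ t : F, f (gx hC r t) = 1) (g : D.group F) : f g = 1 := by
  have h : D.group F ≤ f.ker.map (D.group F).subtype := by
    conv_lhs => rw [group_eq_closure hC]
    refine (Subgroup.closure_le _).2 ?_
    rintro x ⟨r, t, hr, rfl⟩
    exact ⟨gx hC r t, MonoidHom.mem_ker.2 (hf r hr t), gx_val hC hr t⟩
  obtain ⟨y, hy, e⟩ := h g.2
  have hy' : f y = 1 := MonoidHom.mem_ker.1 hy
  rwa [Subtype.ext e] at hy'

/-- A representation of the group gives a system of root elements on any list of roots. -/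
theorem isRG_hom {b : Tb} (hb : linkTb b T = true) {N : Type*} [Monoid N] (f : D.group F →* N)
    {P : List ℕ} (hP : ∀ r ∈ P, r < D.nroots) : IsRG b.sys P fun r t => f (gx hC r t) := by
  have hG := (isRG_gx (F := F) hC hb).mono fun r hr => List.mem_range.2 (hP r hr)
  refine ⟨fun r hr => ?_, fun r hr t u => ?_, fun r hr s hs h1 h2 t u => ?_,
    fun r hr s hs h1 h2 t u => ?_⟩
  · rw [hG.zero r hr, map_one]
  · rw [hG.add r hr, map_mul]
  · exact (hG.comm r hr s hs h1 h2 t u).map f
  · rw [← map_mul, ← map_mul, ← map_mul, hG.conj r hr s hs h1 h2 t u]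

end Cfsg.Agent.SimpleFacts.MinDegExc
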