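import Mathlib
import Cfsg.Agent.SimpleFacts.MinDegExc.Common
import Cfsg.Agent.SimpleFacts.MinDegExc.Data.E8Chk
import Cfsg.Agent.SimpleFacts.MinDegExc.Arith
import Cfsg.Agent.Lib.Chevalley.Types.OrderE8

/-!
The minimal degree for E8: the radical of type E8, the abelian radical of type E7, then type E6.
-/

set_option autoImplicit false

namespace Cfsg.Agent.SimpleFacts.MinDegExc

open Cfsg.Lie

variable {F : Type*} [Field F] [Fintype F] {V : Type*} [AddCommGroup V] [Module ℂ V]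
variable [FiniteDimensional ℂ V]

theorem e6in8_sl6 : sl6Chk Data.tE8.sys Data.e6in8Root Data.e6in8Neg
    (Data.e6in8Lvl.a :: Data.e6in8Lvl.L) Data.e6in8Lvl.a = true := by decide +kernel

theorem e8_range : (Data.e8.th :: Data.e8.rest).all (fun r => Nat.blt r 240) &&
    (List.range 240).all (fun r => (Data.e8.th :: Data.e8.rest).contains r) = true := by
  decide +kernel

/-- The bound for the subsystem of type E7, less two, from the trace deficit. -/
theorem e7_system {X : ℕ → F → Module.End ℂ V}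
    (hX : IsRG Data.tE8.sys (Data.e8Lvl.a :: Data.e8Lvl.L) X)
    (hD : ∀ t : F, t ≠ 0 → LinearMap.trace ℂ V (X Data.e8Lvl.a t) =
      (Module.finrank ℂ V : ℂ) - (Fintype.card F : ℂ) ^ 17) :
    Fintype.card F ^ 17 + Fintype.card F ^ 13 + Fintype.card F ^ 11 + Fintype.card F ^ 9 +
      Fintype.card F ^ 7 + Fintype.card F ^ 5 + Fintype.card F ≤ Module.finrank ℂ V + 2 := by
  obtain ⟨q, hq⟩ : ∃ q, q = Fintype.card F := ⟨_, rfl⟩
  have hq2 : 2 ≤ q := hq ▸ Fintype.one_lt_card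
  obtain ⟨hconn, hroots, hab⟩ := Data.e7_conn
  simp only [List.all_eq_true, List.contains_iff_mem] at hroots
  simp only [List.all_eq_true, Bool.and_eq_true, beq_iff_eq, Bool.not_eq_true',
    beq_eq_false_iff_ne] at hab
  obtain ⟨ψ, hψ⟩ := MinDegOrth.exists_psi_ne (F := F)
  obtain ⟨b0, l0, hL⟩ : ∃ b l, Data.e8Lvl.L = b :: l := ⟨_, _, rfl⟩
  have hc := fun u hu (w : F) (hw : w ≠ 0) =>
    hX.trace_const (P := Data.e8Lvl.a :: Data.e8Lvl.L) List.mem_cons_self
      (fun r hr => List.mem_cons_of_mem _ (hL ▸ hr)) (hL ▸ hconn) u hu w hw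
  have hall : ∀ u ∈ Data.e8Lvl.a :: Data.e8Lvl.L, ∀ w : F, w ≠ 0 →
      LinearMap.trace ℂ V (X u w) = (Module.finrank ℂ V : ℂ) - (q : ℂ) ^ 17 := by
    intro u hu w hw
    rw [hL] at hu
    rw [hc u hu w hw, ← hc Data.e8Lvl.a List.mem_cons_self 1 one_ne_zero, hD 1 one_ne_zero, hq]
  have C : Ctx Data.tE8.sys Data.e7Lvl X := by
    refine ⟨Data.e7_chk, hX.mono hroots, fun b hb c hc t u => ?_⟩
    obtain ⟨h1, h2⟩ := hab b hb c hc
    exact hX.comm b (hroots b (List.mem_append_left _ hb)) c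
      (hroots c (List.mem_append_left _ hc)) h2 h1 t u
  have hR : DefR Data.tE8.sys Data.e7Lvl X := fun b hb t ht => by
    rw [hall b (hroots b (List.mem_append_left _ hb)) t ht, hq]; rfl
  obtain ⟨hX', hdim, htr⟩ := C.step hψ hR
  have htr' := htr ((q : ℂ) ^ 17) (fun t ht => hall _
    (hroots _ (List.mem_append_right _ List.mem_cons_self)) t ht)
  rw [cnt_sum, sum_of_perm _ Data.e7_exps] at hdim
  rw [cnt_sum, fix_sum, sum_of_perm _ Data.e7_exps, sum_of_perm _ Data.e7_fixed] at htr'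
  have hsub := Data.e6in8_sub
  simp only [Bool.and_eq_true, List.all_eq_true, List.contains_iff_mem, decide_eq_true_eq] at hsub
  have hne : ∃ r ∈ Data.e6in8.th :: Data.e6in8.rest, ∃ t,
      res (C.fam.P ψ 0) (X r t) ≠ 1 := by
    refine ⟨Data.e7Lvl.a, hsub.2 _ List.mem_cons_self, 1, fun h => ?_⟩
    have e := htr' 1 one_ne_zero
    rw [h, LinearMap.trace_one, ← hq] at e
    have hq1 : ((q - 1 : ℕ) : ℂ) = (q : ℂ) - 1 := by
      push_cast [Nat.cast_sub (show 1 ≤ q by omega)]; rfl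
    simp only [List.map_cons, List.map_nil, List.sum_cons, List.sum_nil] at e
    push_cast [hq1] at e
    have h5 : (q : ℂ) ^ 11 = 0 := by linear_combination e
    exact (pow_ne_zero 11 (Nat.cast_ne_zero.2 (by omega : q ≠ 0))) h5
  have h6 := e6_system (L := Data.e6in8Root) (M := Data.e6in8Neg) Data.e6in8_chk rfl
    Data.e6in8_nfix Data.e6in8_exps Data.e6in8_fixed e6in8_sl6 (hX'.mono hsub.1) hne
  rw [← hq] at hdim h6 ⊢
  simp only [List.map_cons, List.map_nil, List.sum_cons, List.sum_nil] at hdim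
  have hq1 : 1 ≤ q := by omega
  zify [hq1] at hdim h6 ⊢
  linarith

/-- The bound for E8, less three. -/
theorem e8_system {X : ℕ → F → Module.End ℂ V}
    (hX : IsRG Data.tE8.sys (Data.e8.th :: Data.e8.rest) X)
    (hne : ∃ r ∈ Data.e8.th :: Data.e8.rest, ∃ t, X r t ≠ 1) :
    Fintype.card F ^ 29 + Fintype.card F ^ 23 + Fintype.card F ^ 19 + Fintype.card F ^ 17 +
      Fintype.card F ^ 13 + Fintype.card F ^ 11 + Fintype.card F ^ 7 + Fintype.card F ≤
        Module.finrank ℂ V + 3 := by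
  obtain ⟨q, hq⟩ : ∃ q, q = Fintype.card F := ⟨_, rfl⟩
  have hq2 : 2 ≤ q := hq ▸ Fintype.one_lt_card
  have h := Top.main Data.e8_chk hX hne
  rw [show Data.e8.lv = Data.e8Lvl from rfl, cnt_sum, fix_sum, sum_of_perm _ Data.e8_exps,
    sum_of_perm _ Data.e8_fixed, Data.e8_nfix, show Data.e8Lvl.k + 1 = 28 from rfl, ← hq] at h
  rw [← hq]
  rcases h with h | ⟨E, W, X', hX', hdim, htr⟩
  · have h' : 2 * (q - 1) * (q + 1) * q ^ 27 ≤ Module.finrank ℂ V := by
      refine Nat.le_of_mul_le_mul_left ?_ (by omega : 0 < q)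
      calc q * (2 * (q - 1) * (q + 1) * q ^ 27) = 2 * (q - 1) * (q + 1) * q ^ 28 := by ring
        _ ≤ _ := h
    obtain ⟨m, rfl⟩ : ∃ m, q = m + 2 := ⟨q - 2, by omega⟩
    rw [show m + 2 - 1 = m + 1 from rfl] at h'
    refine le_trans (le_trans ?_ h') (Nat.le_add_right _ _)
    have h4 : ∀ a b : ℕ, a ≤ b → (m + 2) ^ a ≤ (m + 2) ^ b := fun a b hab =>
      Nat.pow_le_pow_right (by omega) hab
    have e11 : (m + 2) ^ 29 + 2 * (m + 2) ^ 27 ≤ 2 * (m + 1) * (m + 2 + 1) * (m + 2) ^ 27 := by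
      rw [show (m + 2) ^ 29 + 2 * (m + 2) ^ 27 = ((m + 2) ^ 2 + 2) * (m + 2) ^ 27 by ring]
      gcongr
      nlinarith
    have e23 : 16 * (m + 2) ^ 23 ≤ (m + 2) ^ 27 := by
      rw [show (m + 2) ^ 27 = (m + 2) ^ 4 * (m + 2) ^ 23 by ring]
      gcongr
      calc 16 = 2 ^ 4 := by norm_num
        _ ≤ _ := Nat.pow_le_pow_left (by omega) 4
    have := h4 19 23 (by norm_num)
    have := h4 17 23 (by norm_num)
    have := h4 13 23 (by norm_num)
    have := h4 11 23 (by norm_num)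
    have := h4 7 23 (by norm_num)
    have := h4 1 23 (by norm_num)
    rw [pow_one] at this
    omega
  · have h7 := e7_system hX' fun t ht => by
      rw [htr t ht, ← hq]
      have hq1 : ((q - 1 : ℕ) : ℂ) = (q : ℂ) - 1 := by
        push_cast [Nat.cast_sub (show 1 ≤ q by omega)]; rfl
      simp only [List.map_cons, List.map_nil, List.sum_cons, List.sum_nil]
      push_cast [hq1]
      ring
    rw [← hq] at h7
    simp only [List.map_cons, List.map_nil, List.sum_cons, List.sum_nil] at hdim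
    have hq1 : 1 ≤ q := by omega
    zify [hq1] at hdim h7 ⊢
    linarith

/-- Non-trivial irreducible representations of `E_8(q)` have degree at least
`q(q^12+1)(q^10+1)(q^6+1)`. -/
theorem e8_min {F : Type*} [Field F] [Fintype F] (k : ℕ)
    (ρ : Representation ℂ (chevE8.group F) (Fin k → ℂ)) (hρ : ρ.IsIrreducible) (hk : 2 ≤ k) :
    Fintype.card F * (Fintype.card F ^ 12 + 1) * (Fintype.card F ^ 10 + 1) *
      (Fintype.card F ^ 6 + 1) ≤ k := by
  have hC := Chevalley.Types.E8.certified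
  obtain ⟨q, hq⟩ : ∃ q, q = Fintype.card F := ⟨_, rfl⟩
  have hrange := e8_range
  simp only [Bool.and_eq_true, List.all_eq_true, Nat.blt_eq, List.mem_range,
    List.contains_iff_mem, decide_eq_true_eq] at hrange
  have hX := isRG_hom (F := F) hC Data.e8_link ρ (P := Data.e8.th :: Data.e8.rest) hrange.1
  have hne : ∃ r ∈ Data.e8.th :: Data.e8.rest, ∃ t, ρ (gx hC r t) ≠ 1 := by
    by_contra hc
    push Not at hc
    obtain ⟨g, hg⟩ := exists_ne_one ρ hρ hk
    exact hg (hom_trivial hC ρ (fun r hr t => hc r (hrange.2 r hr) t) g)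
  have h := e8_system hX hne
  rw [Module.finrank_fintype_fun_eq_card, Fintype.card_fin, ← hq] at h
  rw [← hq]
  by_contra hlt
  push Not at hlt
  have hT : q * (q ^ 12 + 1) * (q ^ 10 + 1) * (q ^ 6 + 1) =
      q ^ 29 + q ^ 23 + q ^ 19 + q ^ 17 + q ^ 13 + q ^ 11 + q ^ 7 + q := by ring
  rw [hT] at hlt
  have hq2 : 2 ≤ q := hq ▸ Fintype.one_lt_card
  have hdvd := degree_dvd_of ρ hρ (Chevalley.Types.OrderE8.card_group F)
  simp only [List.map_cons, List.map_nil, List.prod_cons, List.prod_nil, mul_one, ← hq] at hdvd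
  obtain ⟨a, hp, ha⟩ := FiniteField.card F (ringChar F)
  have hpq : q = ringChar F ^ (a : ℕ) := hq.trans ha
  have hqc : (q : ℤ) = (ringChar F : ℤ) ^ (a : ℕ) := by rw [hpq]; push_cast; ring
  have hZ : (k : ℤ) ∣ (q : ℤ) ^ 120 * (((q : ℤ) ^ 2 - 1) * ((q : ℤ) ^ 8 - 1) * ((q : ℤ) ^ 12 - 1) *
      ((q : ℤ) ^ 14 - 1) * ((q : ℤ) ^ 18 - 1) * ((q : ℤ) ^ 20 - 1) * ((q : ℤ) ^ 24 - 1) *
      ((q : ℤ) ^ 30 - 1)) := by
    have h1 : ∀ d, ((q ^ d - 1 : ℕ) : ℤ) = (q : ℤ) ^ d - 1 := fun d => by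
      push_cast [Nat.cast_sub (Nat.one_le_pow d q (by omega))]; ring
    have h2 := Int.natCast_dvd_natCast.2 hdvd
    push_cast [h1] at h2
    simpa [mul_assoc] using h2
  obtain ⟨j, hj1, hj3, hkj⟩ : ∃ j, 1 ≤ j ∧ j ≤ 3 ∧
      k + j = q ^ 29 + q ^ 23 + q ^ 19 + q ^ 17 + q ^ 13 + q ^ 11 + q ^ 7 + q :=
    ⟨_, by omega, by omega, Nat.add_sub_cancel' hlt.le⟩
  have hkZ : (k : ℤ) = (q : ℤ) ^ 29 + (q : ℤ) ^ 23 + (q : ℤ) ^ 19 + (q : ℤ) ^ 17 + (q : ℤ) ^ 13 +
      (q : ℤ) ^ 11 + (q : ℤ) ^ 7 + (q : ℤ) - (j : ℤ) := by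
    have := congrArg (fun x : ℕ => (x : ℤ)) hkj
    push_cast at this
    linarith
  have hk1 : k = q ^ 29 + q ^ 23 + q ^ 19 + q ^ 17 + q ^ 13 + q ^ 11 + q ^ 7 + q - j := by omega
  interval_cases j
  · rcases Nat.lt_or_ge q 13 with hs | hb
    · exact eight_1_small q hs hq2 (hk1 ▸ by simpa [mul_assoc] using hdvd)
    · exact eight_1 hp (hpq ▸ hb) hqc (by simpa using hkZ) hZ
  · rcases Nat.lt_or_ge q 31 with hs | hb
    · exact eight_2_small q hs hq2 (hk1 ▸ by simpa [mul_assoc] using hdvd)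
    · exact eight_2 hp (hpq ▸ hb) hqc (by simpa using hkZ) hZ
  · rcases Nat.lt_or_ge q 19 with hs | hb
    · exact eight_3_small q hs hq2 (hk1 ▸ by simpa [mul_assoc] using hdvd)
    · exact eight_3 hp (hpq ▸ hb) hqc (by simpa using hkZ) hZ

end Cfsg.Agent.SimpleFacts.MinDegExc
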