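import Mathlib
import Cfsg.Agent.SimpleFacts.MinDegExc.Common
import Cfsg.Agent.SimpleFacts.MinDegExc.Data.E6Chk
import Cfsg.Agent.SimpleFacts.MinDegExc.Arith
import Cfsg.Agent.Lib.Chevalley.Types.OrderE6

/-!
The minimal degree for E6.
-/

set_option autoImplicit false

namespace Cfsg.Agent.SimpleFacts.MinDegExc

open Cfsg.Lie

theorem e6_sl6 : sl6Chk Data.tE6.sys Data.e6Root Data.e6Neg
    (Data.e6Lvl.a :: Data.e6Lvl.L) Data.e6Lvl.a = true := by decide +kernel

theorem e6_range : (Data.e6.th :: Data.e6.rest).all (fun r => Nat.blt r 72) &&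
    (List.range 72).all (fun r => (Data.e6.th :: Data.e6.rest).contains r) = true := by
  decide +kernel

/-- Non-trivial irreducible representations of `E_6(q)` have degree at least
`q(q^6+q^3+1)(q^4+1)`. -/
theorem e6_min {F : Type*} [Field F] [Fintype F] (k : ℕ)
    (ρ : Representation ℂ (chevE6.group F) (Fin k → ℂ)) (hρ : ρ.IsIrreducible) (hk : 2 ≤ k) :
    Fintype.card F * (Fintype.card F ^ 6 + Fintype.card F ^ 3 + 1) * (Fintype.card F ^ 4 + 1) ≤ k := by
  have hC := Chevalley.Types.E6.certified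
  obtain ⟨q, hq⟩ : ∃ q, q = Fintype.card F := ⟨_, rfl⟩
  have hrange := e6_range
  simp only [Bool.and_eq_true, List.all_eq_true, Nat.blt_eq, List.mem_range,
    List.contains_iff_mem, decide_eq_true_eq] at hrange
  have hX := isRG_hom (F := F) hC Data.e6_link ρ (P := Data.e6.th :: Data.e6.rest) hrange.1
  have hne : ∃ r ∈ Data.e6.th :: Data.e6.rest, ∃ t, ρ (gx hC r t) ≠ 1 := by
    by_contra hc
    push Not at hc
    obtain ⟨g, hg⟩ := exists_ne_one ρ hρ hk
    exact hg (hom_trivial hC ρ (fun r hr t => hc r (hrange.2 r hr) t) g)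
  have h := e6_system (L := Data.e6Root) (M := Data.e6Neg) Data.e6_chk rfl Data.e6_nfix
    Data.e6_exps Data.e6_fixed e6_sl6 hX hne
  rw [Module.finrank_fintype_fun_eq_card, Fintype.card_fin, ← hq] at h
  rw [← hq]
  by_contra hlt
  push Not at hlt
  have hT : q * (q ^ 6 + q ^ 3 + 1) * (q ^ 4 + 1) = q ^ 11 + q ^ 8 + q ^ 7 + q ^ 5 + q ^ 4 + q := by
    ring
  rw [hT] at hlt
  have hq2 : 2 ≤ q := hq ▸ Fintype.one_lt_card
  have hdvd := degree_dvd_of ρ hρ (Chevalley.Types.OrderE6.card_group F)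
  simp only [List.map_cons, List.map_nil, List.prod_cons, List.prod_nil, mul_one, ← hq] at hdvd
  have hk1 : k = q ^ 11 + q ^ 8 + q ^ 7 + q ^ 5 + q ^ 4 + q - 1 := by omega
  rcases Nat.lt_or_ge q 19 with hs | hb
  · exact six_1_small q hs hq2 (hk1 ▸ by simpa [mul_assoc] using hdvd)
  · obtain ⟨a, hp, ha⟩ := FiniteField.card F (ringChar F)
    have hpq : q = ringChar F ^ (a : ℕ) := hq.trans ha
    refine six_1 (q := (q : ℤ)) (k := (k : ℤ)) hp (hpq ▸ hb) (by rw [hpq]; push_cast; ring) ?_ ?_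
    · have h1 : 1 ≤ q := by omega
      rw [hk1, Nat.cast_sub (le_add_left h1)]
      push_cast; ring
    · have h1 : ∀ d, ((q ^ d - 1 : ℕ) : ℤ) = (q : ℤ) ^ d - 1 := fun d => by
        push_cast [Nat.cast_sub (Nat.one_le_pow d q (by omega))]; ring
      have h2 := Int.natCast_dvd_natCast.2 hdvd
      push_cast [h1] at h2
      simpa [mul_assoc] using h2

end Cfsg.Agent.SimpleFacts.MinDegExc
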